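import Groth.Agent.AlgSp.K606.EqRep

/-!
# `RepWith P`: named forms of the stability properties (instance search does not see through the abbreviation)
-/

universe u

open CategoryTheory CategoryTheory.Limits AlgebraicGeometry Opposite AlgSp

namespace K606.RepWithBasic

variable {S : Scheme.{u}}

theorem comp {P : MorphismProperty Scheme.{u}} [P.IsStableUnderBaseChange] [P.IsMultiplicative] {F G H : Sp S}
    {f : F ⟶ G} {g : G ⟶ H} (hf : RepWith P f) (hg : RepWith P g) : RepWith P (f ≫ g) :=
  (repWith_isMultiplicative P).toIsStableUnderComposition.comp_mem f g hf hg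

/-- `fst'` is the base change of `g` along `f`. -/
theorem of_isPullback {P : MorphismProperty Scheme.{u}} {F G F' G' : Sp S} {f : F' ⟶ F} {g' : F' ⟶ G'} {g : F ⟶ G}
    {f' : G' ⟶ G} (sq : IsPullback f g' g f') (hg : RepWith P g) : RepWith P g' :=
  (repWith_isStableUnderBaseChange P).of_isPullback sq hg

theorem precomp_iso {P : MorphismProperty Scheme.{u}} {F G H : Sp S} (e : F ≅ G) {g : G ⟶ H} (hg : RepWith P g) :
    RepWith P (e.hom ≫ g) := by
  refine of_isPullback (f := e.hom) (f' := 𝟙 _) ?_ hg
  exact IsPullback.of_horiz_isIso ⟨by simp⟩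

theorem postcomp_iso {P : MorphismProperty Scheme.{u}} {F G H : Sp S} {f : F ⟶ G} (e : G ≅ H) (hf : RepWith P f) :
    RepWith P (f ≫ e.hom) := by
  refine of_isPullback (f := 𝟙 _) (f' := e.inv) ?_ hf
  exact IsPullback.of_horiz_isIso ⟨by simp⟩

theorem representable_of_isPullback {F G F' G' : Sp S} {f : F' ⟶ F} {g' : F' ⟶ G'} {g : F ⟶ G}
    {f' : G' ⟶ G} (sq : IsPullback f g' g f') (hg : Representable g) : Representable g' :=
  Representable.of_isPullback sq hg

theorem mono {P Q : MorphismProperty Scheme.{u}} (h : ∀ ⦃X Y : Scheme.{u}⦄ (f : X ⟶ Y), P f → Q f) {F G : Sp S}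
    {f : F ⟶ G} (hf : RepWith P f) : RepWith Q f :=
  ⟨hf.1, fun _ _ g fst snd sq => h _ (hf.2 g fst snd sq)⟩

/-- For `P` respecting isomorphisms it suffices to check one represented pullback over each test scheme. -/
theorem of_exists {P : MorphismProperty Scheme.{u}} [P.RespectsIso] {F G : Sp S} {f : F ⟶ G}
    (h : ∀ (U : Over S) (g : (yon S).obj U ⟶ G), ∃ (V : Over S) (fst : (yon S).obj V ⟶ F) (snd : V ⟶ U),
      IsPullback fst ((yon S).map snd) f g ∧ P snd.left) : RepWith P f := by
  have : (P.inverseImage (Over.forget S)).RespectsIso := MorphismProperty.RespectsIso.inverseImage P _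
  refine MorphismProperty.relative.of_exists fun U g => ?_
  obtain ⟨V, fst, snd, sq, hP⟩ := h U g
  exact ⟨V, fst, snd, sq, hP⟩

end K606.RepWithBasic
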