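import Groth.Agent.AlgSp.K606.FppfRepSp
import Groth.Agent.AlgSp.K606.RepWithBasic

/-!
# Fppf descent of representability, part 3: a sheaf over a scheme `T` which is a scheme fppf locally on `T`
-/

set_option autoImplicit false
universe u

open CategoryTheory CategoryTheory.Limits AlgebraicGeometry Opposite AlgSp

namespace K606.FppfRepOver

open K606.YonSec K606.PshBasic K606.FppfRepSp

variable {S : Scheme.{u}}

section Fb

variable {F : Sp S} {T : Over S} (f : F ⟶ (yon S).obj T)

/-- The sections of `F` over `X ⟶ T` lying over the structure morphism. -/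
noncomputable def Fb : (Over T.left)ᵒᵖ ⥤ Type (u + 1) := fiberFun f.hom T (up (𝟙 T))

/-- underlying section -/
def val {X : Over T.left} (x : (Fb f).obj (op X)) : F.obj.obj (op ((Over.map T.hom).obj X)) := Subtype.val x

theorem val_injective {X : Over T.left} {x y : (Fb f).obj (op X)} (h : val f x = val f y) : x = y := Subtype.ext h

theorem app_val {X : Over T.left} (x : (Fb f).obj (op X)) : f.hom.app _ (val f x) = up (overHom T X) := by
  have : f.hom.app _ (val f x) = ((yon S).obj T).obj.map (overHom T X).op (up (𝟙 T)) := Subtype.property x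
  rw [this, map_up, Category.comp_id]

/-- constructor -/
def mkFb {X : Over T.left} (x : F.obj.obj (op ((Over.map T.hom).obj X))) (h : f.hom.app _ x = up (overHom T X)) :
    (Fb f).obj (op X) := ⟨x, by
      change f.hom.app _ x = ((yon S).obj T).obj.map (overHom T X).op (up (𝟙 T))
      rw [h, map_up, Category.comp_id]⟩

@[simp] theorem val_mkFb {X : Over T.left} (x : F.obj.obj (op ((Over.map T.hom).obj X)))
    (h : f.hom.app _ x = up (overHom T X)) : val f (mkFb f x h) = x := rfl

theorem val_map {X Y : Over T.left} (g : Y ⟶ X) (x : (Fb f).obj (op X)) :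
    val f ((Fb f).map g.op x) = F.obj.map ((Over.map T.hom).map g).op (val f x) := rfl

theorem isFppfSheafW_Fb : IsFppfSheafW (Fb f) := by
  intro X ι X' g h1 h2 h3 x hx
  have hfam : K594.Cover.Fam (fun i => (Over.map T.hom).map (g i)) := ⟨h1, h2, h3⟩
  obtain ⟨y, hy, hy'⟩ := hfam.glue F (fun i => val f (x i)) (by
    intro i j Z a b hab
    have e1 : a.left ≫ (g i).left = b.left ≫ (g j).left := congrArg (·.left) hab
    have hb : b.left ≫ (X' j).hom = a.left ≫ (X' i).hom := by
      rw [← Over.w (g i), ← Over.w (g j), ← Category.assoc, ← Category.assoc, e1]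
    let R : Over T.left := Over.mk (a.left ≫ (X' i).hom)
    let a' : R ⟶ X' i := Over.homMk a.left rfl
    let b' : R ⟶ X' j := Over.homMk b.left hb
    have e2 : a' ≫ g i = b' ≫ g j := by ext; exact e1
    have e3 := congrArg (val f) (hx i j R a' b' e2)
    rw [val_map, val_map] at e3
    let c : Z ⟶ (Over.map T.hom).obj R := Over.homMk (𝟙 _) (by
      change 𝟙 _ ≫ (a.left ≫ (X' i).hom) ≫ T.hom = Z.hom
      rw [Category.id_comp, Category.assoc]
      exact Over.w a)
    have e4 := congrArg (F.obj.map c.op) e3
    rw [map_comp, map_comp] at e4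
    have ea : c ≫ (Over.map T.hom).map a' = a := by ext; exact Category.id_comp _
    have eb : c ≫ (Over.map T.hom).map b' = b := by ext; exact Category.id_comp _
    rwa [ea, eb] at e4)
  have hfy : f.hom.app _ y = up (overHom T X) := by
    refine hfam.ext ((yon S).obj T) fun i => ?_
    rw [← hom_app_map, hy i, app_val, map_up, map_comp_overHom]
  refine ⟨mkFb f y hfy, fun i => val_injective f ?_, fun z hz => val_injective f ?_⟩
  · rw [val_map, val_mkFb]
    exact hy i
  · rw [val_mkFb]
    refine hy' _ fun i => ?_
    change F.obj.map ((Over.map T.hom).map (g i)).op (val f z) = _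
    rw [← val_map, hz i]

/-- Base change: representability of the restriction. -/
theorem nonempty_rep_of_isPullback {T' V' : Over S} {g : T' ⟶ T} {v' : V' ⟶ T'} {fst : (yon S).obj V' ⟶ F}
    (sq : IsPullback fst ((yon S).map v') f ((yon S).map g)) :
    Nonempty (((Over.map g.left).op ⋙ Fb f).RepresentableBy (Over.mk v'.left)) := by
  obtain ⟨h0, h1, h2⟩ := (isPullback_sheaf_iff_app _ _ _ _).1 sq
  -- the object of `Over S` below `X`
  have hX : ∀ (X : Over T'.left), X.hom ≫ T'.hom = ((Over.map T.hom).obj ((Over.map g.left).obj X)).hom := by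
    intro X
    change X.hom ≫ T'.hom = (X.hom ≫ g.left) ≫ T.hom
    rw [Category.assoc, Over.w g]
  let m' : ∀ {X : Over T'.left} (m : X ⟶ Over.mk v'.left), (Over.map T.hom).obj ((Over.map g.left).obj X) ⟶ V' :=
    fun {X} m => Over.homMk m.left (by
      have : m.left ≫ v'.left = X.hom := Over.w m
      rw [← hX X, ← this, Category.assoc, Over.w v'])
  have hm' : ∀ {X : Over T'.left} (m : X ⟶ Over.mk v'.left), m' m ≫ v' ≫ g = overHom T ((Over.map g.left).obj X) := by
    intro X m
    have : m.left ≫ v'.left = X.hom := Over.w m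
    ext
    change m.left ≫ v'.left ≫ g.left = X.hom ≫ g.left
    rw [← Category.assoc, this]
  have hkey : ∀ {X : Over T'.left} (m : X ⟶ Over.mk v'.left),
      f.hom.app _ (fst.hom.app _ (up (m' m))) = up (overHom T ((Over.map g.left).obj X)) := by
    intro X m
    rw [h0, yon_map_up, yon_map_up, Category.assoc, hm']
  refine ⟨⟨fun {X} => Equiv.ofBijective
    (fun m => mkFb f (X := (Over.map g.left).obj X) (fst.hom.app _ (up (m' m))) (hkey m)) ⟨?_, ?_⟩, ?_⟩⟩
  · intro m₁ m₂ h
    have e1 : fst.hom.app _ (up (m' m₁)) = fst.hom.app _ (up (m' m₂)) := congrArg (val f) h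
    have e2 := h1 _ (up (m' m₁)) (up (m' m₂)) e1 (by
      rw [yon_map_up, yon_map_up]
      congr 1
      ext
      change m₁.left ≫ v'.left = m₂.left ≫ v'.left
      exact (Over.w m₁).trans (Over.w m₂).symm)
    ext
    exact congrArg (·.left) (up_injective e2)
  · intro y
    let Z := (Over.map T.hom).obj ((Over.map g.left).obj X)
    let t' : Z ⟶ T' := Over.homMk X.hom (hX X)
    have e1 : f.hom.app _ (val f y) = ((yon S).map g).hom.app _ (up t') := by
      rw [app_val, yon_map_up]
      congr 1
    obtain ⟨z, hz1, hz2⟩ := h2 _ (val f y) (up t') e1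
    have e2 : dn z ≫ v' = t' := by
      apply up_injective
      rw [← hz2, yon_map_app]
    let m : X ⟶ Over.mk v'.left := Over.homMk (dn z).left (congrArg (·.left) e2)
    refine ⟨m, val_injective f ?_⟩
    rw [← hz1]
    change fst.hom.app _ (up (m' m)) = fst.hom.app _ z
    congr 1
  · intro X X' a b
    apply val_injective f
    change fst.hom.app _ (up (m' (a ≫ b))) = F.obj.map ((Over.map T.hom).map ((Over.map g.left).map a)).op
      (fst.hom.app _ (up (m' b)))
    rw [← hom_app_map, map_up]
    congr 2

/-- If the sections over `T` are representable over `T` then `F` is a scheme. -/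
theorem nonempty_iso_of_rep {A : Over T.left} (r : (Fb f).RepresentableBy A) :
    Nonempty ((yon S).obj ((Over.map T.hom).obj A) ≅ F) := by
  let w := r.homEquiv (𝟙 A)
  have hw : ∀ {X : Over T.left} (m : X ⟶ A), r.homEquiv m = (Fb f).map m.op w := fun m => r.homEquiv_eq m
  -- bijectivity on sections
  have hbij : ∀ X : Over S, Function.Bijective (fun m : X ⟶ (Over.map T.hom).obj A => F.obj.map m.op (val f w)) := by
    intro X
    constructor
    · intro m₁ m₂ h
      dsimp only at h
      have e1 : m₁ ≫ overHom T A = m₂ ≫ overHom T A := by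
        apply up_injective
        rw [← map_up, ← map_up, ← app_val f w, ← hom_app_map, ← hom_app_map, h]
      have e1' : m₁.left ≫ A.hom = m₂.left ≫ A.hom := congrArg (·.left) e1
      let X' : Over T.left := Over.mk (m₁.left ≫ A.hom)
      let m₁' : X' ⟶ A := Over.homMk m₁.left rfl
      let m₂' : X' ⟶ A := Over.homMk m₂.left e1'.symm
      let c : (Over.map T.hom).obj X' ⟶ X := Over.homMk (𝟙 _) (by
        change 𝟙 _ ≫ X.hom = (m₁.left ≫ A.hom) ≫ T.hom
        rw [Category.id_comp, Category.assoc]
        exact (Over.w m₁).symm)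
      have e2 : m₁' = m₂' := by
        apply r.homEquiv.injective
        rw [hw, hw]
        apply val_injective f
        rw [val_map, val_map]
        have e3 := congrArg (F.obj.map c.op) h
        rw [map_comp, map_comp] at e3
        have ea : c ≫ m₁ = (Over.map T.hom).map m₁' := by ext; exact Category.id_comp _
        have eb : c ≫ m₂ = (Over.map T.hom).map m₂' := by ext; exact Category.id_comp _
        rwa [ea, eb] at e3
      ext
      exact congrArg (·.left) e2
    · intro y
      let t : X ⟶ T := dn (f.hom.app _ y)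
      let X' : Over T.left := Over.mk t.left
      let c : (Over.map T.hom).obj X' ⟶ X := Over.homMk (𝟙 _) (by
        change 𝟙 _ ≫ X.hom = t.left ≫ T.hom
        rw [Category.id_comp]
        exact (Over.w t).symm)
      let c' : X ⟶ (Over.map T.hom).obj X' := Over.homMk (𝟙 _) (by
        change 𝟙 _ ≫ t.left ≫ T.hom = X.hom
        rw [Category.id_comp]
        exact Over.w t)
      have hcc : c' ≫ c = 𝟙 _ := by ext; exact Category.id_comp _
      have hc1 : c ≫ t = overHom T X' := by ext; exact Category.id_comp _
      let y' : (Fb f).obj (op X') := mkFb f (F.obj.map c.op y) (by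
        rw [hom_app_map, ← up_dn (f.hom.app _ y), map_up]
        exact congrArg up hc1)
      obtain ⟨m, hm⟩ := r.homEquiv.surjective y'
      refine ⟨c' ≫ (Over.map T.hom).map m, ?_⟩
      dsimp only
      rw [← map_comp, ← val_map, ← hw, hm, val_mkFb, map_comp, hcc, map_id]
  let ρ : F.obj.RepresentableBy ((Over.map T.hom).obj A) :=
    ⟨fun {X} => Equiv.ofBijective _ (hbij X), fun {X X'} a b => by
      change F.obj.map (a ≫ b).op (val f w) = F.obj.map a.op (F.obj.map b.op (val f w))
      rw [map_comp]⟩
  exact ⟨isoOfRepresentableBy ρ⟩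

end Fb

/-- **Fppf descent of representability** for a sheaf over a scheme `T`. -/
theorem exists_iso_of_fppf {F : Sp S} {T : Over S} (f : F ⟶ (yon S).obj T)
    (h : ∀ t : T.left, ∃ (T' : Over S) (g : T' ⟶ T), Flat g.left ∧ LocallyOfFinitePresentation g.left ∧
      t ∈ Set.range g.left ∧ ∃ (V' : Over S) (v' : V' ⟶ T') (fst : (yon S).obj V' ⟶ F),
        IsPullback fst ((yon S).map v') f ((yon S).map g) ∧
        ∀ U : V'.left.Opens, IsCompact (U : Set V'.left) → (U : Scheme.{u}).IsQuasiAffine) :
    ∃ V : Over S, Nonempty ((yon S).obj V ≅ F) := by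
  obtain ⟨A, ⟨r⟩⟩ := exists_representableBy_of_fppf (isFppfSheafW_Fb f) fun t => by
    obtain ⟨T', g, h1, h2, h3, V', v', fst, sq, h4⟩ := h t
    exact ⟨T'.left, g.left, h1, h2, h3, Over.mk v'.left, nonempty_rep_of_isPullback f sq, h4⟩
  exact ⟨_, nonempty_iso_of_rep f r⟩

end K606.FppfRepOver
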