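import Groth.Agent.AlgSp.K606.PshBasic

/-!
# Sections and maps from representable sheaves

`ofSec x : h_T ⟶ F` for `x ∈ F(T)`, `sec g ∈ F(T)` for `g : h_T ⟶ F`, `up f ∈ h_U(T)` for `f : T ⟶ U`.
-/

universe u

open CategoryTheory CategoryTheory.Limits AlgebraicGeometry Opposite AlgSp

namespace K606.YonSec

variable {S : Scheme.{u}}

/-- the section of `h_U` over `T` defined by a morphism `T ⟶ U` -/
def up {T U : Over S} (f : T ⟶ U) : ((yon S).obj U).obj.obj (op T) := ULift.up f

/-- the morphism `T ⟶ U` defined by a section of `h_U` over `T` -/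
def dn {T U : Over S} (x : ((yon S).obj U).obj.obj (op T)) : T ⟶ U := ULift.down x

@[simp] theorem dn_up {T U : Over S} (f : T ⟶ U) : dn (up f) = f := rfl
@[simp] theorem up_dn {T U : Over S} (x : ((yon S).obj U).obj.obj (op T)) : up (dn x) = x := rfl

theorem up_injective {T U : Over S} {f g : T ⟶ U} (h : up f = up g) : f = g := congrArg dn h

theorem dn_injective {T U : Over S} {x y : ((yon S).obj U).obj.obj (op T)} (h : dn x = dn y) : x = y :=
  congrArg up h

theorem map_up {T T' U : Over S} (g : T' ⟶ T) (f : T ⟶ U) :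
    ((yon S).obj U).obj.map g.op (up f) = up (g ≫ f) := rfl

theorem yon_map_up {T U V : Over S} (f : T ⟶ U) (g : U ⟶ V) :
    ((yon S).map g).hom.app (op T) (up f) = up (f ≫ g) := rfl

theorem yon_map_app {U V : Over S} (g : U ⟶ V) {T : Over S} (x : ((yon S).obj U).obj.obj (op T)) :
    ((yon S).map g).hom.app (op T) x = up (dn x ≫ g) := rfl

theorem map_comp {F : PSp S} {T T' T'' : Over S} (f : T' ⟶ T) (g : T'' ⟶ T') (x : F.obj (op T)) :
    F.map g.op (F.map f.op x) = F.map (g ≫ f).op x := by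
  rw [op_comp, Functor.map_comp_apply]

theorem map_id {F : PSp S} {T : Over S} (x : F.obj (op T)) : F.map (𝟙 T).op x = x := by
  rw [op_id, Functor.map_id_apply]

theorem nat {F G : PSp S} (a : F ⟶ G) {T T' : Over S} (f : T' ⟶ T) (x : F.obj (op T)) :
    a.app (op T') (F.map f.op x) = G.map f.op (a.app (op T) x) := NatTrans.naturality_apply a f.op x

/-- the map `h_T ⟶ F` defined by a section -/
noncomputable def ofSec {F : Sp S} {T : Over S} (x : F.obj.obj (op T)) : (yon S).obj T ⟶ F :=
  (GrothendieckTopology.uliftYonedaEquiv.{u + 1} (J S) (F := F)).symm x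

/-- the section defined by a map `h_T ⟶ F` -/
noncomputable def sec {F : Sp S} {T : Over S} (g : (yon S).obj T ⟶ F) : F.obj.obj (op T) := g.hom.app _ (up (𝟙 T))

theorem ofSec_app {F : Sp S} {T : Over S} (x : F.obj.obj (op T)) {T' : Over S} (f : T' ⟶ T) :
    (ofSec x).hom.app (op T') (up f) = F.obj.map f.op x :=
  GrothendieckTopology.uliftYonedaEquiv_symm_app_apply (J S) x _ _

@[simp] theorem sec_ofSec {F : Sp S} {T : Over S} (x : F.obj.obj (op T)) : sec (ofSec x) = x := by
  rw [sec, ofSec_app, map_id]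

@[simp] theorem ofSec_sec {F : Sp S} {T : Over S} (g : (yon S).obj T ⟶ F) : ofSec (sec g) = g :=
  (GrothendieckTopology.uliftYonedaEquiv.{u + 1} (J S) (F := F)).symm_apply_apply g

theorem app_up {F : Sp S} {T T' : Over S} (g : (yon S).obj T ⟶ F) (f : T' ⟶ T) :
    g.hom.app (op T') (up f) = F.obj.map f.op (sec g) := by
  conv_lhs => rw [← ofSec_sec g]
  rw [ofSec_app]

theorem ofSec_injective {F : Sp S} {T : Over S} {x y : F.obj.obj (op T)} (h : ofSec x = ofSec y) : x = y := by
  rw [← sec_ofSec x, h, sec_ofSec]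

theorem sec_injective {F : Sp S} {T : Over S} {g g' : (yon S).obj T ⟶ F} (h : sec g = sec g') : g = g' := by
  rw [← ofSec_sec g, h, ofSec_sec]

theorem sec_comp {F G : Sp S} {T : Over S} (g : (yon S).obj T ⟶ F) (f : F ⟶ G) :
    sec (g ≫ f) = f.hom.app _ (sec g) := rfl

theorem ofSec_comp {F G : Sp S} {T : Over S} (x : F.obj.obj (op T)) (f : F ⟶ G) :
    ofSec x ≫ f = ofSec (f.hom.app _ x) := by
  apply sec_injective
  rw [sec_comp, sec_ofSec, sec_ofSec]

theorem sec_map_comp {F : Sp S} {T T' : Over S} (f : T' ⟶ T) (g : (yon S).obj T ⟶ F) :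
    sec ((yon S).map f ≫ g) = F.obj.map f.op (sec g) := by
  rw [sec_comp, sec, yon_map_up, Category.id_comp, app_up]

theorem map_comp_ofSec {F : Sp S} {T T' : Over S} (f : T' ⟶ T) (x : F.obj.obj (op T)) :
    (yon S).map f ≫ ofSec x = ofSec (F.obj.map f.op x) := by
  apply sec_injective
  rw [sec_map_comp, sec_ofSec, sec_ofSec]

theorem hom_app_map {F G : Sp S} (a : F ⟶ G) {T T' : Over S} (f : T' ⟶ T) (x : F.obj.obj (op T)) :
    a.hom.app (op T') (F.obj.map f.op x) = G.obj.map f.op (a.hom.app (op T) x) :=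
  NatTrans.naturality_apply a.hom f.op x

theorem comp_app {F G H : Sp S} (a : F ⟶ G) (b : G ⟶ H) {T : Over S} (x : F.obj.obj (op T)) :
    (a ≫ b).hom.app (op T) x = b.hom.app _ (a.hom.app _ x) := rfl

theorem sec_map {T U : Over S} (f : T ⟶ U) : sec ((yon S).map f) = up f := by
  rw [sec, yon_map_up, Category.id_comp]

theorem ofSec_up {T U : Over S} (f : T ⟶ U) : ofSec (up f) = (yon S).map f := by
  rw [← sec_map, ofSec_sec]

/-- two maps of sheaves which agree on all sections are equal -/
theorem hom_ext {F G : Sp S} {a b : F ⟶ G} (h : ∀ (T : Over S) (x : F.obj.obj (op T)),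
    a.hom.app (op T) x = b.hom.app (op T) x) : a = b := by
  apply ObjectProperty.hom_ext
  ext T x
  exact h T.unop x

end K606.YonSec
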