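import Groth.Agent.AlgSp.K606.FppfRepOver
import Groth.Agent.AlgSp.K613.Cover
import Mathlib.AlgebraicGeometry.ZariskisMainTheorem

/-!
# Effective fppf descent for separated locally quasi-finite morphisms of sheaves
-/

set_option autoImplicit false
universe u

open CategoryTheory CategoryTheory.Limits AlgebraicGeometry Opposite AlgSp

namespace K606.LqfDesc

open K606.FppfRepOver K613.Cover

variable {S : Scheme.{u}}

/-- Separated, locally quasi-finite and locally of finite type. -/
abbrev SepLqf : MorphismProperty Scheme.{u} := @IsSeparated ⊓ (@LocallyQuasiFinite ⊓ @LocallyOfFiniteType)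

instance sepLqf_isStableUnderBaseChange : SepLqf.{u}.IsStableUnderBaseChange where
  of_isPullback sq h := ⟨MorphismProperty.of_isPullback (P := @IsSeparated) sq h.1,
    MorphismProperty.of_isPullback (P := @LocallyQuasiFinite) sq h.2.1,
    MorphismProperty.of_isPullback (P := @LocallyOfFiniteType) sq h.2.2⟩

/-- Quasi-compact opens of a scheme separated and locally quasi-finite over an affine scheme are quasi-affine. -/
theorem isQuasiAffine_of_lqf {X Y : Scheme.{u}} (f : X ⟶ Y) [IsAffine Y] (hf : SepLqf f) (U : X.Opens)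
    (hU : IsCompact (U : Set X)) : (U : Scheme.{u}).IsQuasiAffine := by
  have h1 : IsSeparated f := hf.1
  have h2 : LocallyQuasiFinite f := hf.2.1
  have h3 : LocallyOfFiniteType f := hf.2.2
  have h4 : CompactSpace (U : Scheme.{u}) := isCompact_iff_compactSpace.1 hU
  have h5 : QuasiCompact (U.ι ≫ f) := by
    rw [quasiCompact_iff_compactSpace]
    infer_instance
  have h6 : LocallyQuasiFinite (U.ι ≫ f) := inferInstance
  have h7 : IsAffine (U.ι ≫ f).normalization := by
    have : IsAffineHom (U.ι ≫ f).fromNormalization := inferInstance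
    exact isAffine_of_isAffineHom (U.ι ≫ f).fromNormalization
  exact Scheme.IsQuasiAffine.of_isImmersion (U.ι ≫ f).toNormalization

/-- A sheaf over a scheme `T` which fppf locally on `T` is a scheme, separated and locally quasi-finite over the base,
is a scheme. -/
theorem exists_iso_of_fppf_lqf {F : Sp S} {T : Over S} (f : F ⟶ (yon S).obj T)
    (h : ∀ t : T.left, ∃ (T' : Over S) (g : T' ⟶ T), Flat g.left ∧ LocallyOfFinitePresentation g.left ∧
      t ∈ Set.range g.left ∧ ∃ (V' : Over S) (v' : V' ⟶ T') (fst : (yon S).obj V' ⟶ F),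
        IsPullback fst ((yon S).map v') f ((yon S).map g) ∧ SepLqf v'.left) :
    ∃ V : Over S, Nonempty ((yon S).obj V ≅ F) := by
  refine exists_iso_of_fppf f fun t => ?_
  obtain ⟨T', g, hg1, hg2, ⟨t', rfl⟩, V', v', fst, sq, hv⟩ := h t
  obtain ⟨B, hB, htB, -⟩ := exists_isAffineOpen_mem_and_subset (x := t') (U := ⊤) trivial
  have hBa : IsAffine (B : Scheme.{u}) := hB
  let BS : Over S := Over.mk (B.ι ≫ T'.hom)
  let β : BS ⟶ T' := Over.homMk B.ι rfl
  have hpb := IsPullback.of_hasPullback v' β
  have hprop : SepLqf (pullback.snd v' β).left := (SepLqf).of_isPullback (hpb.map (Over.forget S)) hv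
  have hβ : (β ≫ g).left = B.ι ≫ g.left := rfl
  refine ⟨BS, β ≫ g, ?_, ?_, ⟨⟨t', htB⟩, ?_⟩, pullback v' β, pullback.snd v' β,
    (yon S).map (pullback.fst v' β) ≫ fst, ?_, fun U hU => ?_⟩
  · rw [hβ]; infer_instance
  · rw [hβ]; infer_instance
  · rw [hβ]; rfl
  · rw [Functor.map_comp]
    have := hpb.map (yon S)
    exact this.paste_horiz sq
  · have : IsAffine BS.left := hBa
    exact isQuasiAffine_of_lqf (pullback.snd v' β).left hprop U hU

/-- A map of sheaves is representable as soon as its base changes to schemes are schemes. -/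
theorem representable_of_exists_iso {F G : Sp S} {f : F ⟶ G}
    (h : ∀ (T : Over S) (ξ : (yon S).obj T ⟶ G), ∃ V : Over S, Nonempty ((yon S).obj V ≅ pullback f ξ)) :
    Representable f := by
  intro T ξ
  obtain ⟨V, ⟨e⟩⟩ := h T ξ
  obtain ⟨v, hv⟩ := (yon S).map_surjective (e.hom ≫ pullback.snd f ξ)
  refine ⟨V, v, e.hom ≫ pullback.fst f ξ, ?_⟩
  refine (IsPullback.of_hasPullback f ξ).of_iso e.symm (Iso.refl _) (Iso.refl _) (Iso.refl _) ?_ ?_ ?_ ?_
  · simp
  · rw [hv]; simp
  · simp
  · simp

/-- If the base change of `b : H ⟶ G` along an fppf locally surjective map is representable, separated and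
locally quasi-finite, then `b` is representable. -/
theorem representable_of_fSurj {E F G H : Sp S} {a : E ⟶ F} {f : E ⟶ H} {g : F ⟶ G} {b : H ⟶ G}
    (sq : IsPullback f a b g) (hg : FSurj g) (ha : RepWith SepLqf a) : Representable b := by
  refine representable_of_exists_iso fun T ξ => ?_
  obtain ⟨T', c, h, hc, hh⟩ := hg T ξ
  obtain ⟨V', v', fst', sq'⟩ := ha.1 h
  have hv : SepLqf v'.left := ha.2 h fst' v' sq'
  refine exists_iso_of_fppf_lqf (pullback.snd b ξ) fun t => ?_
  have hcs := hc.surj
  have s1 : IsPullback (fst' ≫ f) ((yon S).map v') b ((yon S).map c ≫ ξ) := by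
    rw [← hh]
    exact (sq'.flip.paste_vert sq.flip).flip
  have s2 := IsPullback.of_hasPullback b ξ
  refine ⟨T', c, hc.flat, hc.lfp, c.left.surjective t, V', v',
    s2.lift (fst' ≫ f) ((yon S).map v' ≫ (yon S).map c) (by rw [s1.w, Category.assoc]), ?_, hv⟩
  refine IsPullback.of_right ?_ ?_ s2
  · rw [s2.lift_fst]
    exact s1
  · rw [s2.lift_snd]

end K606.LqfDesc
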