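import Groth.Agent.AlgSp.K606.RepWithBasic

/-!
# Maps of presheaves representable by algebraic spaces

Calculus of `AlgSp.RepBySp`: source of such a map to an algebraic space is an algebraic space, base change,
composition, products, relative diagonals, cancellation.
-/

universe u

open CategoryTheory CategoryTheory.Limits AlgebraicGeometry Opposite AlgSp

namespace K606.RepBySp

open K606.PshBasic K606.YonSec K606.EqRep

variable {S : Scheme.{u}}

/-- An algebraic space admits an atlas; a sheaf which receives a representable etale surjective map from an algebraic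
space admits an atlas. -/
theorem exists_atlas_of_repWith {F F' : Sp S} (hF' : IsAlgSpace F') (f : F' ⟶ F) (he : RepWith @Etale f)
    (hs : RepWith @Surjective f) :
    ∃ (U : Over S) (p : (yon S).obj U ⟶ F), RepWith @Etale p ∧ RepWith @Surjective p := by
  obtain ⟨V, q, hq, hq'⟩ := hF'.atlas
  exact ⟨V, q ≫ f, RepWithBasic.comp hq he, RepWithBasic.comp hq' hs⟩

/-- The source of a map representable by algebraic spaces to an algebraic space is an algebraic space. -/
theorem isAlgSpaceP_of_repBySp {F G : PSp S} (a : F ⟶ G) (ha : RepBySp a) (hG : IsAlgSpaceP G) : IsAlgSpaceP F := by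
  obtain ⟨hGs, hGA⟩ := hG
  have hFs := isSheaf_of_repBySp a ha hGs
  refine ⟨hFs, ?_⟩
  let a' : (⟨F, hFs⟩ : Sp S) ⟶ ⟨G, hGs⟩ := ObjectProperty.homMk a
  have ha' : RepBySp a'.hom := ha
  obtain ⟨U, p, hp, hp'⟩ := hGA.atlas
  have sq := IsPullback.of_hasPullback a' p
  have hP : IsAlgSpace (pullback a' p) := (repBySp_hom_iff a').1 ha' _ _ _ sq
  refine ⟨(representable_diag_iff _).2 (hasEqRep_of_repBySp a ha (hasEqRep_of_isAlgSpace hGA)), ?_⟩
  exact exists_atlas_of_repWith hP (pullback.fst a' p) (RepWithBasic.of_isPullback sq.flip hp)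
    (RepWithBasic.of_isPullback sq.flip hp')

/-- Maps representable by algebraic spaces are stable under base change. -/
theorem repBySp_of_isPullback {F G F' G' : PSp S} {a : F ⟶ G} {g : G' ⟶ G} {fst : F' ⟶ F} {a' : F' ⟶ G'}
    (sq : IsPullback fst a' a g) (ha : RepBySp a) : RepBySp a' :=
  fun _ ξ _ _ _ sq' => ha (ξ ≫ g) _ _ (sq'.paste_horiz sq)

instance : (RepBySp (S := S)).IsStableUnderBaseChange where
  of_isPullback sq ha := repBySp_of_isPullback sq ha

/-- The base change of a map representable by algebraic spaces to an algebraic space is an algebraic space. -/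
theorem isAlgSpaceP_of_isPullback {F G F' G' : PSp S} {a : F ⟶ G} {g : G' ⟶ G} {fst : F' ⟶ F} {a' : F' ⟶ G'}
    (sq : IsPullback fst a' a g) (ha : RepBySp a) (hG : IsAlgSpaceP G') : IsAlgSpaceP F' :=
  isAlgSpaceP_of_repBySp a' (repBySp_of_isPullback sq ha) hG

/-- Composition. -/
theorem repBySp_comp {F G H : PSp S} {a : F ⟶ G} {b : G ⟶ H} (ha : RepBySp a) (hb : RepBySp b) :
    RepBySp (a ≫ b) := by
  intro U ξ F' fst snd sq
  have sq₁ := IsPullback.of_hasPullback b ξ
  have hG' : IsAlgSpaceP (pullback b ξ) := hb ξ _ _ sq₁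
  have sq₂ : IsPullback fst (sq₁.lift (fst ≫ a) snd (by rw [Category.assoc, sq.w])) a (pullback.fst b ξ) := by
    refine IsPullback.of_bot ?_ (by simp) sq₁
    simpa using sq
  exact isAlgSpaceP_of_isPullback sq₂ ha hG'

/-- A map of presheaves representable by schemes is representable by algebraic spaces. -/
theorem repBySp_of_relativelyRepresentable {F G : PSp S} {a : F ⟶ G} (ha : (pyon S).relativelyRepresentable a) :
    RepBySp a := by
  intro U ξ F' fst snd sq
  obtain ⟨V, snd', fst', sq'⟩ := ha ξ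
  exact ((isAlgSpaceP_obj_iff _).2 (IsAlgSpace.yon_obj V)).of_iso (sq'.isoIsPullback _ _ sq)

theorem isAlgSpaceP_pyon (V : Over S) : IsAlgSpaceP ((pyon S).obj V) :=
  (isAlgSpaceP_obj_iff _).2 (IsAlgSpace.yon_obj V)

theorem repBySp_of_isIso {F G : PSp S} (a : F ⟶ G) [IsIso a] : RepBySp a := by
  intro U ξ F' fst snd sq
  have : IsIso snd := sq.isIso_snd_of_isIso
  exact (isAlgSpaceP_pyon U).of_iso (asIso snd).symm

instance : (RepBySp (S := S)).IsStableUnderComposition where
  comp_mem _ _ := repBySp_comp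

instance : (RepBySp (S := S)).IsMultiplicative where
  id_mem F := repBySp_of_isIso (𝟙 F)

/-- Fibre products of algebraic spaces over a sheaf with representable diagonal are algebraic spaces. -/
theorem isAlgSpace_of_isPullback_of_diag {X Y H P : Sp S} (hX : IsAlgSpace X) (hY : IsAlgSpace Y)
    (hH : Representable (Limits.diag H)) {f : X ⟶ H} {g : Y ⟶ H} {fst : P ⟶ X} {snd : P ⟶ Y}
    (sq : IsPullback fst snd f g) : IsAlgSpace P := by
  obtain ⟨U, p, hp, hp'⟩ := hX.atlas
  obtain ⟨V, q, hq, hq'⟩ := hY.atlas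
  refine ⟨(representable_diag_iff _).2 (hasEqRep_of_jointly_injective fst.hom snd.hom
    (((isPullback_sheaf_iff_app _ _ _ _).1 sq).2.1) (hasEqRep_of_isAlgSpace hX) (hasEqRep_of_isAlgSpace hY)), ?_⟩
  -- `h_U ×_H h_V` is a scheme
  obtain ⟨W, w, fst', sq'⟩ := Functor.relativelyRepresentable.of_diag hH (p ≫ f) (q ≫ g)
  have s1 := IsPullback.of_hasPullback p fst  -- h_U ×_X P
  have s2 := IsPullback.of_hasPullback q (pullback.snd p fst ≫ snd)
  -- the corner of `s2` is `h_U ×_H h_V`
  have s3 : IsPullback (pullback.snd q (pullback.snd p fst ≫ snd) ≫ pullback.fst p fst)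
      (pullback.fst q (pullback.snd p fst ≫ snd)) (p ≫ f) (q ≫ g) := by
    have t1 : IsPullback (pullback.fst p fst) (pullback.snd p fst ≫ snd) (p ≫ f) g :=
      s1.paste_vert sq
    exact (s2.flip.flip.paste_vert t1.flip).flip
  let e := sq'.isoIsPullback _ _ s3
  refine ⟨W, e.hom ≫ pullback.snd q (pullback.snd p fst ≫ snd) ≫ pullback.snd p fst, ?_, ?_⟩
  · exact RepWithBasic.precomp_iso e (RepWithBasic.comp (RepWithBasic.of_isPullback s2 hq)
      (RepWithBasic.of_isPullback s1 hp))
  · exact RepWithBasic.precomp_iso e (RepWithBasic.comp (RepWithBasic.of_isPullback s2 hq')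
      (RepWithBasic.of_isPullback s1 hp'))

end K606.RepBySp
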