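import Groth.Prelude.Def_AlgSpRep

/-!
# Presheaf-level basics for algebraic spaces

Elementwise criteria for pullback squares of presheaves and sheaves of sets on `Over S`, and the sheaf condition
for the source of a map representable by algebraic spaces.
-/

universe u

open CategoryTheory CategoryTheory.Limits AlgebraicGeometry Opposite AlgSp

namespace K606.PshBasic

variable {S : Scheme.{u}}

/-- Elementwise criterion for pullback squares of presheaves. -/
theorem isPullback_iff_app {A B C D : PSp S} (t : A ⟶ B) (l : A ⟶ C) (r : B ⟶ D) (b : C ⟶ D) :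
    IsPullback t l r b ↔ (∀ (T : Over S) (x : A.obj (op T)), r.app _ (t.app _ x) = b.app _ (l.app _ x)) ∧
      (∀ (T : Over S) (x y : A.obj (op T)), t.app _ x = t.app _ y → l.app _ x = l.app _ y → x = y) ∧
      ∀ (T : Over S) (x : B.obj (op T)) (y : C.obj (op T)), r.app _ x = b.app _ y →
        ∃ z : A.obj (op T), t.app _ z = x ∧ l.app _ z = y := by
  constructor
  · intro h
    refine ⟨fun T x => ?_, fun T x y h1 h2 => ?_, fun T x y hxy => ?_⟩
    · have := congrArg (fun f => f.app (op T) x) h.w
      simpa using this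
    · have h' := h.map ((evaluation _ _).obj (op T))
      exact Types.ext_of_isPullback h' h1 h2
    · have h' := h.map ((evaluation _ _).obj (op T))
      exact Types.exists_of_isPullback h' x y hxy
  · rintro ⟨h0, h1, h2⟩
    refine IsPullback.of_forall_isPullback_app fun T => ?_
    rw [Types.isPullback_iff]
    refine ⟨?_, fun x y h => h1 T.unop x y h.1 h.2, fun x y h => h2 T.unop x y h⟩
    ext x
    exact h0 T.unop x

/-- Elementwise criterion for pullback squares of sheaves. -/
theorem isPullback_sheaf_iff_app {A B C D : Sp S} (t : A ⟶ B) (l : A ⟶ C) (r : B ⟶ D) (b : C ⟶ D) :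
    IsPullback t l r b ↔
      (∀ (T : Over S) (x : A.obj.obj (op T)), r.hom.app _ (t.hom.app _ x) = b.hom.app _ (l.hom.app _ x)) ∧
      (∀ (T : Over S) (x y : A.obj.obj (op T)), t.hom.app _ x = t.hom.app _ y →
        l.hom.app _ x = l.hom.app _ y → x = y) ∧
      ∀ (T : Over S) (x : B.obj.obj (op T)) (y : C.obj.obj (op T)), r.hom.app _ x = b.hom.app _ y →
        ∃ z : A.obj.obj (op T), t.hom.app _ z = x ∧ l.hom.app _ z = y := by
  rw [← isPullback_iff_app]
  exact ⟨fun h => h.map (sheafToPresheaf (J S) (Type (u + 1))),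
    fun h => IsPullback.of_map_of_faithful (sheafToPresheaf (J S) (Type (u + 1))) h⟩

/-- the map `h_T ⟶ G` of a section -/
noncomputable abbrev ofSect {G : PSp S} {T : Over S} (g : G.obj (op T)) : (pyon S).obj T ⟶ G :=
  uliftYonedaEquiv.{u + 1}.symm g

theorem ofSect_app {G : PSp S} {T : Over S} (g : G.obj (op T)) {T' : Over S} (f : T' ⟶ T) :
    (ofSect g).app (op T') ⟨f⟩ = G.map f.op g := by
  simp [ofSect]

/-- If `a : F ⟶ G` is representable by algebraic spaces and `G` is an fppf sheaf then `F` is an fppf sheaf. -/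
theorem isSheaf_of_repBySp {F G : PSp S} (a : F ⟶ G) (ha : RepBySp a) (hG : Presheaf.IsSheaf (J S) G) :
    Presheaf.IsSheaf (J S) F := by
  rw [isSheaf_iff_isSheaf_of_type] at hG ⊢
  intro T R hR x hx
  have hy : (Presieve.FamilyOfElements.map x a).Compatible := by
    intro Y₁ Y₂ Z g₁ g₂ f₁ f₂ hf₁ hf₂ h
    simp only [Presieve.FamilyOfElements.map_apply]
    rw [← NatTrans.naturality_apply, ← NatTrans.naturality_apply]
    exact congrArg _ (hx g₁ g₂ hf₁ hf₂ h)
  obtain ⟨g, hg, hg'⟩ := hG R hR _ hy
  have sq := IsPullback.of_hasPullback a (ofSect g)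
  obtain ⟨hs, -⟩ := ha _ _ _ sq
  rw [isSheaf_iff_isSheaf_of_type] at hs
  obtain ⟨h0, h1, h2⟩ := (isPullback_iff_app _ _ _ _).1 sq
  have key : ∀ (T' : Over S) (f : T' ⟶ T) (hf : R.arrows f), ∃ z : (pullback a (ofSect g)).obj (op T'),
      (pullback.fst a (ofSect g)).app _ z = x f hf ∧ (pullback.snd a (ofSect g)).app _ z = ⟨f⟩ := by
    intro T' f hf
    refine h2 T' (x f hf) ⟨f⟩ ?_
    rw [ofSect_app]
    exact (hg f hf).symm
  choose z hz1 hz2 using key
  have hzc : Presieve.FamilyOfElements.Compatible (P := pullback a (ofSect g)) (R := R.arrows) z := by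
    intro Y₁ Y₂ Z g₁ g₂ f₁ f₂ hf₁ hf₂ h
    apply h1
    · rw [NatTrans.naturality_apply, NatTrans.naturality_apply, hz1, hz1]
      exact hx g₁ g₂ hf₁ hf₂ h
    · rw [NatTrans.naturality_apply, NatTrans.naturality_apply, hz2, hz2]
      exact ULift.ext _ _ h
  obtain ⟨w, hw, hw'⟩ := hs R hR z hzc
  have hwid : (pullback.snd a (ofSect g)).app _ w = ⟨𝟙 T⟩ := by
    have hsub : Presieve.IsSeparatedFor ((pyon S).obj T) R.arrows :=
      ((isSheaf_iff_isSheaf_of_type _ _).1 ((yon S).obj T).property R hR).isSeparatedFor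
    refine hsub (fun T' f _ => ⟨f⟩) _ _ ?_ ?_
    · intro T' f hf
      rw [← NatTrans.naturality_apply]
      exact (congrArg _ (hw f hf)).trans (hz2 T' f hf)
    · intro T' f hf
      exact ULift.ext _ _ (Category.comp_id f)
  refine ⟨(pullback.fst a (ofSect g)).app _ w, ?_, ?_⟩
  · intro T' f hf
    rw [← NatTrans.naturality_apply]
    exact (congrArg _ (hw f hf)).trans (hz1 T' f hf)
  · intro y hy
    have hay : a.app _ y = g := by
      refine hg' _ ?_
      intro T' f hf
      rw [← NatTrans.naturality_apply]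
      exact congrArg _ (hy f hf)
    obtain ⟨v, hv1, hv2⟩ := h2 T y ⟨𝟙 T⟩ (by rw [ofSect_app, hay]; simp)
    rw [← hv1]
    congr 1
    refine hw' _ ?_
    intro T' f hf
    apply h1
    · rw [NatTrans.naturality_apply, hv1]
      exact (hy f hf).trans (hz1 T' f hf).symm
    · rw [NatTrans.naturality_apply, hv2]
      refine Eq.trans ?_ (hz2 T' f hf).symm
      exact ULift.ext _ _ (Category.comp_id f)

end K606.PshBasic
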