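import Groth.Agent.AlgSp.K606.Boot

/-!
# S10100: maps from a scheme, representable by algebraic spaces and locally of finite type, are representable
-/

set_option autoImplicit false
universe u

open CategoryTheory CategoryTheory.Limits AlgebraicGeometry Opposite

namespace K606.Boot2

open AlgSp K613.Cover K606.LqfDesc K606.SepLqf K606.FCov K606.Boot

variable {S : Scheme.{u}}

/-- A monomorphism, locally of finite type, from an algebraic space to a scheme : the source is a scheme. -/
theorem exists_iso_of_mono (h259 : SepLqfSch S) {E : Sp S} {W : Over S} (hE : IsAlgSpace E)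
    (a : E ⟶ (yon S).obj W) [Mono a] (ha : LocP @LocallyOfFiniteType a) :
    ∃ V : Over S, Nonempty ((yon S).obj V ≅ E) := by
  obtain ⟨V, snd, fst, sq⟩ := (repWith_sepLqf_of_mono h259 hE (IsAlgSpace.yon_obj W) a ha).1 (𝟙 _)
  have : IsIso fst := sq.isIso_fst_of_isIso
  exact ⟨V, ⟨asIso fst⟩⟩

theorem relativelyRepresentable_of_lft (h259 : SepLqfSch S) {F : PSp S} {X : Over S}
    (p : (pyon S).obj X ⟶ F) (hp : RepBySpWith (LocP @LocallyOfFiniteType) p) :
    (pyon S).relativelyRepresentable p := by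
  intro T ξ
  have sq := IsPullback.of_hasPullback p ξ
  obtain ⟨h, hA, hl⟩ := hp ξ _ _ sq
  let E : Sp S := ⟨pullback p ξ, h⟩
  let fst : E ⟶ (yon S).obj X := ObjectProperty.homMk (pullback.fst p ξ)
  let snd : E ⟶ (yon S).obj T := ObjectProperty.homMk (pullback.snd p ξ)
  let W : Over S := X ⨯ T
  have hW0 : IsPullback (prod.fst : X ⨯ T ⟶ X) prod.snd (Over.mkIdTerminal.from X)
      (Over.mkIdTerminal.from T) :=
    IsPullback.of_isLimit_binaryFan_of_isTerminal (limit.isLimit _) Over.mkIdTerminal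
  have hW := hW0.map (yon S)
  let a : E ⟶ (yon S).obj W := hW.lift fst snd ((K596.QC2.isTerminalYon S).hom_ext _ _)
  have ha1 : a ≫ (yon S).map (prod.fst : W ⟶ X) = fst := hW.lift_fst _ _ _
  have ha2 : a ≫ (yon S).map (prod.snd : W ⟶ T) = snd := hW.lift_snd _ _ _
  have hm : Mono a := by
    refine ⟨fun {Z} x y hxy => ?_⟩
    have e1 : x ≫ fst = y ≫ fst := by rw [← ha1, ← Category.assoc, hxy, Category.assoc]
    have e2 : x ≫ snd = y ≫ snd := by rw [← ha2, ← Category.assoc, hxy, Category.assoc]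
    apply ObjectProperty.hom_ext
    exact sq.hom_ext (congrArg (·.hom) e1) (congrArg (·.hom) e2)
  have hla : LocP @LocallyOfFiniteType a := by
    refine K597.locP_of_comp' K597.etLoc_lft (g := (yon S).map (prod.snd : W ⟶ T)) ?_ hA.hasAtlas
      (IsAlgSpace.yon_obj _).hasAtlas (IsAlgSpace.yon_obj _).hasAtlas ?_
    · intro A B C f g h
      exact locallyOfFiniteType_of_comp f g
    · rw [ha2]; exact hl
  obtain ⟨V, ⟨e⟩⟩ := exists_iso_of_mono h259 hA a hla
  obtain ⟨v, hv⟩ := (yon S).map_surjective (e.hom ≫ snd)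
  let e' : (pyon S).obj V ≅ pullback p ξ := (sheafToPresheaf (J S) (Type (u + 1))).mapIso e
  refine ⟨V, v, e'.hom ≫ pullback.fst p ξ, ?_⟩
  have hv' : (pyon S).map v = e'.hom ≫ pullback.snd p ξ := congrArg (·.hom) hv
  refine sq.of_iso e'.symm (Iso.refl _) (Iso.refl _) (Iso.refl _) ?_ ?_ ?_ ?_
  · simp
  · simp [hv']
  · simp
  · simp

theorem s10100 (h259 : SepLqfSch S) {F : PSp S} {X : Over S}
    (p : (pyon S).obj X ⟶ F) (hp : RepBySpWith (LocP (@LocallyQuasiFinite ⊓ @LocallyOfFiniteType)) p) :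
    (pyon S).relativelyRepresentable p := by
  refine relativelyRepresentable_of_lft h259 p ?_
  intro U ξ F' fst snd sq
  obtain ⟨h, h1, h2⟩ := hp ξ fst snd sq
  exact ⟨h, h1, fun A B a b k ha hb w => (h2 a b k ha hb w).2⟩

end K606.Boot2
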