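import Groth.Agent.AlgSp.K606.Boot2
import Groth.Agent.S10259

/-!
# Unconditional forms of the bootstrap results, on top of S10259
-/

set_option autoImplicit false
universe u

open CategoryTheory CategoryTheory.Limits AlgebraicGeometry Opposite

namespace K606.Boot3

open AlgSp K613.Cover K606.LqfDesc K606.SepLqf K606.FCov K606.Boot K606.Boot2

variable {S : Scheme.{u}}

theorem sepLqfSch (S : Scheme.{u}) : SepLqfSch S := fun T X f h1 h2 => Groth.Agent.S10259.result T X f h1 h2

/-- S10099 : representability of the diagonal. -/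
theorem repWith_diag {F X : Sp S} (hX : IsAlgSpace X) {p : X ⟶ F} (hp : FSurj p)
    (hp' : RepBySpWith (LocP @LocallyOfFiniteType) p.hom) : RepWith SepLqf (Limits.diag F) :=
  K606.Boot.repWith_diag (sepLqfSch S) hX hp hp'

theorem repWith_of_repBySpWith {F G : Sp S} {a : F ⟶ G}
    (ha : RepBySpWith (IsSeparatedMor ⊓ LocP (@LocallyQuasiFinite ⊓ @LocallyOfFiniteType)) a.hom) :
    RepWith SepLqf a := K606.SepLqf.repWith_of_repBySpWith (sepLqfSch S) ha

theorem repWith_sepLqf_of_mono {E G : Sp S} (hE : IsAlgSpace E) (hG : IsAlgSpace G)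
    (a : E ⟶ G) [Mono a] (ha : LocP @LocallyOfFiniteType a) : RepWith SepLqf a :=
  K606.Boot.repWith_sepLqf_of_mono (sepLqfSch S) hE hG a ha

theorem isAlgSpace_of_etale {F X : Sp S} (hX : IsAlgSpace X) {p : X ⟶ F}
    (hp : RepBySpWith (IsSurjectiveMor ⊓ IsEtaleMor) p.hom) : IsAlgSpace F :=
  K606.Boot.isAlgSpace_of_etale (sepLqfSch S) hX hp

theorem relativelyRepresentable_of_lft {F : PSp S} {X : Over S}
    (p : (pyon S).obj X ⟶ F) (hp : RepBySpWith (LocP @LocallyOfFiniteType) p) :
    (pyon S).relativelyRepresentable p := K606.Boot2.relativelyRepresentable_of_lft (sepLqfSch S) p hp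

end K606.Boot3
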