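import Groth.Agent.Etbase.FFExact
import Mathlib.RingTheory.Flat.Equalizer
import Mathlib.LinearAlgebra.TensorProduct.Pi

/-!
# Flat base change and submodules defined by annihilators
-/

set_option autoImplicit false

open TensorProduct

namespace K606.BCSub

section Alg

variable {A B : Type*} [CommRing A] [CommRing B] [Algebra A B] [Module.Flat A B]
  {M M' : Type*} [AddCommGroup M] [AddCommGroup M'] [Module A M] [Module B M'] [Module A M'] [IsScalarTower A B M']
  (f : M →ₗ[A] M')

/-- Restriction of a flat base change to submodules. -/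
theorem isBaseChange_restrict (hf : IsBaseChange B f) (N : Submodule A M) (N' : Submodule B M')
    (hN : ∀ n ∈ N, f n ∈ N'.restrictScalars A) (hN' : N' ≤ Submodule.span B (f '' N)) :
    IsBaseChange B (f.restrict (p := N) (q := N'.restrictScalars A) hN : N →ₗ[A] N') := by
  let g : B ⊗[A] N →ₗ[B] M' := hf.equiv.toLinearMap.comp (AlgebraTensorModule.lTensor B B N.subtype)
  have hg1 : ∀ (b : B) (n : N), g (b ⊗ₜ n) = b • f n := fun b n => by
    simp only [g, LinearMap.comp_apply, AlgebraTensorModule.lTensor_tmul, Submodule.subtype_apply]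
    exact hf.equiv_tmul b n.1
  have hinj : Function.Injective g := by
    refine hf.equiv.injective.comp ?_
    exact Module.Flat.lTensor_preserves_injective_linearMap (M := B) N.subtype N.injective_subtype
  have hrange : ∀ x, g x ∈ N' := by
    intro x
    induction x using TensorProduct.induction_on with
    | zero => rw [map_zero]; exact N'.zero_mem
    | tmul b n => rw [hg1]; exact N'.smul_mem _ (hN n.1 n.2)
    | add x y hx hy => rw [map_add]; exact N'.add_mem hx hy
  have hsurj : ∀ y ∈ Submodule.span B (f '' (N : Set M)), ∃ x, g x = y := by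
    intro y hy
    induction hy using Submodule.span_induction with
    | mem y hy =>
      obtain ⟨n, hn, rfl⟩ := hy
      exact ⟨1 ⊗ₜ ⟨n, hn⟩, by rw [hg1, one_smul]⟩
    | zero => exact ⟨0, map_zero g⟩
    | add y z _ _ hy' hz' =>
      obtain ⟨a, rfl⟩ := hy'
      obtain ⟨b, rfl⟩ := hz'
      exact ⟨a + b, map_add _ _ _⟩
    | smul b y _ hy' =>
      obtain ⟨a, rfl⟩ := hy'
      exact ⟨b • a, map_smul _ _ _⟩
  clear_value g
  let e : B ⊗[A] N ≃ₗ[B] N' := LinearEquiv.ofBijective (g.codRestrict N' hrange)
    ⟨fun x y h => by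
      have h1 : g x = g y := congrArg (Subtype.val (p := fun z => z ∈ N')) h
      exact hinj h1, fun y => by
      obtain ⟨x, hx⟩ := hsurj y.1 (hN' y.2)
      exact ⟨x, Subtype.ext hx⟩⟩
  refine IsBaseChange.of_equiv e fun n => Subtype.ext ?_
  change g (1 ⊗ₜ n) = f n.1
  rw [hg1, one_smul]

/-- Kernels of annihilation by a finitely generated ideal commute with flat base change. -/
theorem ann_le_span (hf : IsBaseChange B f) (I : Ideal A) (hI : I.FG) (m' : M')
    (hm' : ∀ a ∈ I, a • m' = 0) :
    m' ∈ Submodule.span B (f '' {m | ∀ a ∈ I, a • m = 0}) := by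
  obtain ⟨n, v, rfl⟩ := Submodule.fg_iff_exists_fin_generating_family.1 hI
  let d : M →ₗ[A] (Fin n → M) := LinearMap.pi fun i => LinearMap.lsmul A M (v i)
  let x := hf.equiv.symm m'
  have hx : hf.equiv x = m' := hf.equiv.apply_symm_apply m'
  have hvx : ∀ i, v i • x = 0 := by
    intro i
    apply hf.equiv.injective
    have h1 : hf.equiv (v i • x) = v i • hf.equiv x := by
      rw [← algebraMap_smul B (v i) x, map_smul, algebraMap_smul]
    rw [h1, hx, map_zero]
    exact hm' _ (Submodule.subset_span ⟨i, rfl⟩)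
  have hdx : AlgebraTensorModule.lTensor B B d x = 0 := by
    apply (TensorProduct.piRight A B B (fun _ : Fin n => M)).injective
    rw [map_zero]
    ext i
    have key : ∀ y : B ⊗[A] M, TensorProduct.piRight A B B (fun _ : Fin n => M)
        (AlgebraTensorModule.lTensor B B d y) i = v i • y := by
      intro y
      induction y using TensorProduct.induction_on with
      | zero => simp
      | tmul b m => simp [d]
      | add y z hy hz => rw [map_add, map_add, Pi.add_apply, hy, hz, smul_add]
    rw [key, hvx]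
    rfl
  have hker := Module.Flat.ker_lTensor_eq (R := A) B B d
  have hmem : x ∈ LinearMap.range (AlgebraTensorModule.lTensor B B (LinearMap.ker d).subtype) := by
    rw [← hker]
    exact hdx
  obtain ⟨y, hy⟩ := hmem
  rw [← hx, ← hy]
  clear hy hdx hvx hx
  induction y using TensorProduct.induction_on with
  | zero => simp
  | tmul b m =>
    rw [AlgebraTensorModule.lTensor_tmul, hf.equiv_tmul]
    refine Submodule.smul_mem _ _ (Submodule.subset_span ⟨m.1, ?_, rfl⟩)
    intro a ha
    have hm : ∀ i, v i • m.1 = 0 := fun i => congrFun (LinearMap.mem_ker.1 m.2) i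
    induction ha using Submodule.span_induction with
    | mem a ha => obtain ⟨i, rfl⟩ := ha; exact hm i
    | zero => rw [zero_smul]
    | add a b _ _ h1 h2 => rw [add_smul, h1, h2, add_zero]
    | smul c a _ h1 => rw [smul_assoc, h1, smul_zero]
  | add y z hy hz => rw [map_add, map_add]; exact Submodule.add_mem _ hy hz

/-- If the image of `s` in a flat base change lies in the span of the image of `N`, then the ideal of all `a`
with `a • s ∈ N` generates the unit ideal. -/
theorem map_colon_eq_top_alg (hf : IsBaseChange B f) (N : Submodule A M) (s : M)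
    (hs : f s ∈ Submodule.span B (f '' (N : Set M))) :
    (Ideal.map (algebraMap A B) (Submodule.colon N {s})) = ⊤ := by
  let J : Ideal A := Submodule.colon N {s}
  have hJ : ∀ a, a ∈ J ↔ a • s ∈ N := fun a => by simp [J, Submodule.mem_colon_singleton]
  -- `A ⧸ J ↪ M ⧸ N`
  let k : A →ₗ[A] M ⧸ N := LinearMap.toSpanSingleton A (M ⧸ N) (Submodule.Quotient.mk s)
  have hk : ∀ a, k a = 0 ↔ a ∈ J := fun a => by
    rw [hJ, LinearMap.toSpanSingleton_apply, ← Submodule.Quotient.mk_smul, Submodule.Quotient.mk_eq_zero]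
  have hker : LinearMap.ker k = J := by ext a; rw [LinearMap.mem_ker, hk]
  let k' : A ⧸ J →ₗ[A] M ⧸ N := J.liftQ k hker.ge
  have hk' : Function.Injective k' := by
    rw [← LinearMap.ker_eq_bot, Submodule.ker_liftQ_eq_bot J k hker.ge hker.le]
  have hinj : Function.Injective (k'.lTensor B) := Module.Flat.lTensor_preserves_injective_linearMap k' hk'
  let g : M →ₗ[A] B ⊗[A] (M ⧸ N) := (TensorProduct.mk A B (M ⧸ N) 1).comp (Submodule.mkQ _)
  let l : M' →ₗ[B] B ⊗[A] (M ⧸ N) := hf.lift g
  have hl : ∀ n, l (f n) = (1 : B) ⊗ₜ[A] (Submodule.Quotient.mk n) := fun n => hf.lift_eq g n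
  have h0 : (1 : B) ⊗ₜ[A] (Submodule.Quotient.mk s : M ⧸ N) = 0 := by
    rw [← hl]
    have : Submodule.span B (f '' (N : Set M)) ≤ LinearMap.ker l := by
      rw [Submodule.span_le]
      rintro _ ⟨n, hn, rfl⟩
      change l (f n) = 0
      rw [hl, (Submodule.Quotient.mk_eq_zero N).2 hn, tmul_zero]
    exact this hs
  have h1 : (1 : B) ⊗ₜ[A] (1 : A ⧸ J) = 0 := by
    apply hinj
    rw [map_zero, LinearMap.lTensor_tmul]
    have : k' 1 = Submodule.Quotient.mk s := by
      change k 1 = _
      rw [LinearMap.toSpanSingleton_apply, one_smul]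
    rw [this, h0]
  rw [Ideal.eq_top_iff_one]
  have h2 := congrArg (TensorProduct.tensorQuotEquivQuotSMul B J) h1
  have h3 : TensorProduct.tensorQuotEquivQuotSMul B J ((1 : B) ⊗ₜ[A] (1 : A ⧸ J)) =
      Submodule.Quotient.mk (1 : B) := by
    have := TensorProduct.tensorQuotEquivQuotSMul_tmul_mk J (1 : B) (1 : A)
    rwa [one_smul] at this
  rw [h3, map_zero, Submodule.Quotient.mk_eq_zero, Ideal.smul_top_eq_map] at h2
  exact h2

end Alg

section BC

open Groth.Agent.Etbase.FFExact

variable {A B : Type*} [CommRing A] [CommRing B] {φ : A →+* B}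
  {M M' : Type*} [AddCommGroup M] [AddCommGroup M'] [Module A M] [Module B M'] {ψ : M →+ M'}

/-- the restriction of an additive map to submodules -/
def restr (ψ : M →+ M') (N : Submodule A M) (N' : Submodule B M') (hN : ∀ n ∈ N, ψ n ∈ N') : N →+ N' where
  toFun n := ⟨ψ n.1, hN n.1 n.2⟩
  map_zero' := Subtype.ext ψ.map_zero
  map_add' x y := Subtype.ext (ψ.map_add x.1 y.1)

theorem isBC_restr (hφ : φ.Flat) (h : IsBC φ ψ) (N : Submodule A M) (N' : Submodule B M')
    (hN : ∀ n ∈ N, ψ n ∈ N') (hN' : N' ≤ Submodule.span B (ψ '' N)) : IsBC φ (restr ψ N N' hN) := by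
  obtain ⟨h1, h2⟩ := h
  refine ⟨fun a m => Subtype.ext (h1 a m.1), ?_⟩
  let : Algebra A B := φ.toAlgebra
  let : Module A M' := Module.compHom M' φ
  have : IsScalarTower A B M' := ⟨fun a b m => by
      change (φ a * b) • m = φ a • b • m
      rw [mul_smul]⟩
  have : Module.Flat A B := hφ
  exact isBaseChange_restrict _ h2 N N' hN hN'

theorem mem_span_of_ann (hφ : φ.Flat) (h : IsBC φ ψ) (I : Ideal A) (hI : I.FG) (m' : M')
    (hm' : ∀ a ∈ I, φ a • m' = 0) : m' ∈ Submodule.span B (ψ '' {m | ∀ a ∈ I, a • m = 0}) := by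
  obtain ⟨h1, h2⟩ := h
  let : Algebra A B := φ.toAlgebra
  let : Module A M' := Module.compHom M' φ
  have : IsScalarTower A B M' := ⟨fun a b m => by
      change (φ a * b) • m = φ a • b • m
      rw [mul_smul]⟩
  have : Module.Flat A B := hφ
  exact ann_le_span _ h2 I hI m' hm'

theorem map_colon_eq_top (hφ : φ.Flat) (h : IsBC φ ψ) (N : Submodule A M) (s : M)
    (hs : ψ s ∈ Submodule.span B (ψ '' (N : Set M))) : Ideal.map φ (Submodule.colon N {s}) = ⊤ := by
  obtain ⟨h1, h2⟩ := h
  let : Algebra A B := φ.toAlgebra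
  let : Module A M' := Module.compHom M' φ
  have : IsScalarTower A B M' := ⟨fun a b m => by
      change (φ a * b) • m = φ a • b • m
      rw [mul_smul]⟩
  have : Module.Flat A B := hφ
  exact map_colon_eq_top_alg _ h2 N s hs

end BC

end K606.BCSub
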