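import Groth.Agent.AlgSp.K606.SubMod
import Groth.Agent.AlgSp.K606.BCSub
import Groth.Agent.AlgSp.K646.EtSite
import Groth.Prelude.Def_AlgSpModX

/-!
# Submodules of a module on the small étale site given on affine objects
-/

set_option autoImplicit false
universe u

open CategoryTheory CategoryTheory.Limits AlgebraicGeometry Opposite

namespace K606.AffSub

open AlgSp K646.EtSite Groth.Agent.Etbase.FFExact

variable {S : Scheme.{u}} {X : Sp S}

/-- Sections of a module as a module over the ring of global functions. -/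
noncomputable scoped instance modΓ (F : ModEt X) (E : EtOver X) :
    Module Γ(E.obj.left.left, ⊤) (F.val.presheaf.obj (op E)) :=
  Module.compHom (F.val.obj (op E)) (AlgSp.upΓ E)

theorem smul_def (F : ModEt X) (E : EtOver X) (a : Γ(E.obj.left.left, ⊤)) (s : F.val.presheaf.obj (op E)) :
    a • s = (show F.val.obj (op E) from (AlgSp.upΓ E a) • (show F.val.obj (op E) from s)) := rfl

theorem map_smul (F : ModEt X) {E E' : EtOver X} (g : E' ⟶ E) (a : Γ(E.obj.left.left, ⊤))
    (s : F.val.presheaf.obj (op E)) :
    F.val.presheaf.map g.op (a • s) = g.hom.left.left.appTop.hom a • F.val.presheaf.map g.op s :=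
  F.val.map_smul g.op (AlgSp.upΓ E a) s

/-- `F` is cartesian on affine objects. -/
def BCaff (F : ModEt X) : Prop :=
  ∀ {E E' : EtOver X} (g : E' ⟶ E), IsAffine E.obj.left.left → IsAffine E'.obj.left.left →
    IsBC g.hom.left.left.appTop.hom (F.val.presheaf.map g.op).hom

theorem flat_appTop {E E' : EtOver X} (g : E' ⟶ E) (hE : IsAffine E.obj.left.left) (hE' : IsAffine E'.obj.left.left) :
    g.hom.left.left.appTop.hom.Flat := by
  have h1 : Etale g.hom.left.left := etale_mor g
  have h2 : Flat g.hom.left.left := inferInstance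
  exact HasRingHomProperty.appTop @Flat _ h2

/-- A family of submodules of the sections over affine objects, stable under restriction and generated by
restrictions. -/
structure Sub (F : ModEt X) where
  sub : ∀ E : EtOver X, IsAffine E.obj.left.left → Submodule Γ(E.obj.left.left, ⊤) (F.val.presheaf.obj (op E))
  map_mem : ∀ {E E' : EtOver X} (g : E' ⟶ E) (hE : IsAffine E.obj.left.left) (hE' : IsAffine E'.obj.left.left)
    (s : F.val.presheaf.obj (op E)), s ∈ sub E hE → F.val.presheaf.map g.op s ∈ sub E' hE'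
  le_span : ∀ {E E' : EtOver X} (g : E' ⟶ E) (hE : IsAffine E.obj.left.left) (hE' : IsAffine E'.obj.left.left),
    sub E' hE' ≤ Submodule.span Γ(E'.obj.left.left, ⊤) ((F.val.presheaf.map g.op).hom '' (sub E hE))

variable {F : ModEt X} (N : Sub F)

/-- The submodule presheaf. -/
noncomputable def psh : F.val.Submodule where
  obj E :=
    { carrier := {s | ∀ (E' : EtOver X) (g : E' ⟶ E.unop) (hE' : IsAffine E'.obj.left.left),
        F.val.presheaf.map g.op s ∈ N.sub E' hE'}
      zero_mem' := fun E' g hE' => by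
        have h1 : F.val.presheaf.map g.op (0 : F.val.presheaf.obj E) = 0 := map_zero _
        exact h1 ▸ (N.sub E' hE').zero_mem
      add_mem' := fun {s t} hs ht E' g hE' => by
        have := (N.sub E' hE').add_mem (hs E' g hE') (ht E' g hE')
        rwa [← map_add] at this
      smul_mem' := fun r s hs E' g hE' => by
        have h1 := (N.sub E' hE').smul_mem (g.hom.left.left.appTop.hom r.down) (hs E' g hE')
        rw [← map_smul] at h1
        exact h1 }
  map {E E₁} f s hs := fun E' g hE' => by
    have h1 := hs E' (g ≫ f.unop) hE'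
    have h2 : F.val.presheaf.map (g ≫ f.unop).op s = F.val.presheaf.map g.op (F.val.presheaf.map f s) := by
      rw [op_comp, Quiver.Hom.op_unop, F.val.presheaf.map_comp]; rfl
    rw [h2] at h1
    exact h1

theorem mem_psh (E : EtOver X) (s : F.val.presheaf.obj (op E)) :
    s ∈ (psh N).obj (op E) ↔ ∀ (E' : EtOver X) (g : E' ⟶ E) (hE' : IsAffine E'.obj.left.left),
        F.val.presheaf.map g.op s ∈ N.sub E' hE' := Iff.rfl

theorem mem_psh_affine (E : EtOver X) (hE : IsAffine E.obj.left.left) (s : F.val.presheaf.obj (op E)) :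
    s ∈ (psh N).obj (op E) ↔ s ∈ N.sub E hE := by
  rw [mem_psh]
  constructor
  · intro h
    have h1 := h E (𝟙 E) hE
    rw [op_id, F.val.presheaf.map_id] at h1
    exact h1
  · intro h E' g hE'
    exact N.map_mem g hE hE' s h

/-- Membership can be tested étale locally. -/
theorem mem_of_local (hF : BCaff F) (E : EtOver X) (hE : IsAffine E.obj.left.left) (s : F.val.presheaf.obj (op E))
    (h : ∀ x : E.obj.left.left, ∃ (E' : EtOver X) (g : E' ⟶ E) (hE' : IsAffine E'.obj.left.left),
      x ∈ Set.range g.hom.left.left ∧ F.val.presheaf.map g.op s ∈ N.sub E' hE') : s ∈ N.sub E hE := by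
  let J : Ideal Γ(E.obj.left.left, ⊤) := Submodule.colon (N.sub E hE) {s}
  have hJ : J = ⊤ := by
    have haff : IsAffineOpen (⊤ : E.obj.left.left.Opens) := isAffineOpen_top _
    have h1 : (⊤ : E.obj.left.left.Opens) ≤ ⨆ f : (J : Set Γ(E.obj.left.left, ⊤)), E.obj.left.left.basicOpen f.1 := by
      intro x _
      obtain ⟨E', g, hE', ⟨y, rfl⟩, hs⟩ := h x
      have h2 := K606.BCSub.map_colon_eq_top (flat_appTop g hE hE') (hF g hE hE') (N.sub E hE) s
        (N.le_span g hE hE' hs)
      have haff' : IsAffineOpen (⊤ : E'.obj.left.left.Opens) := isAffineOpen_top _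
      have h3 := (haff'.self_le_iSup_basicOpen_iff).2 (show Ideal.span
        (g.hom.left.left.appTop.hom '' (J : Set _)) = ⊤ from h2) (show y ∈ ⊤ from trivial)
      rw [TopologicalSpace.Opens.mem_iSup] at h3 ⊢
      obtain ⟨⟨_, a, ha, rfl⟩, hy⟩ := h3
      refine ⟨⟨a, ha⟩, ?_⟩
      have h4 : E'.obj.left.left.basicOpen (g.hom.left.left.appTop.hom a) =
          g.hom.left.left ⁻¹ᵁ E.obj.left.left.basicOpen a := by
        rw [Scheme.preimage_basicOpen]; rfl
      rw [h4] at hy
      exact hy
    have h5 := (haff.self_le_iSup_basicOpen_iff).1 h1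
    rwa [Ideal.span_eq] at h5
  have h6 : (1 : Γ(E.obj.left.left, ⊤)) ∈ J := by rw [hJ]; trivial
  have h7 := Submodule.mem_colon_singleton.1 h6
  rwa [one_smul] at h7

theorem isLocal (hF : BCaff F) : K606.SubMod.IsLocal (psh N) := by
  intro E₀ T hT s hs
  intro E g hE
  refine mem_of_local N hF E hE _ fun x => ?_
  obtain ⟨E', g', hg', hE', hx⟩ := K646.EtSite.exists_affine E (T.pullback g) ((etTop X).pullback_stable g hT) x
  refine ⟨E', g', hE', hx, ?_⟩
  have h1 := hs (g' ≫ g) hg'
  have h2 := (mem_psh_affine N E' hE' _).1 h1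
  have h3 : F.val.presheaf.map (g' ≫ g).op s = F.val.presheaf.map g'.op (F.val.presheaf.map g.op s) := by
    rw [op_comp, F.val.presheaf.map_comp]; rfl
  rw [← h3]
  exact h2

/-- The sections of the submodule as a submodule over global functions. -/
noncomputable def gsub (E : EtOver X) : Submodule Γ(E.obj.left.left, ⊤) (F.val.presheaf.obj (op E)) where
  carrier := {s | s ∈ (psh N).obj (op E)}
  zero_mem' := ((psh N).obj (op E)).zero_mem
  add_mem' h h' := ((psh N).obj (op E)).add_mem h h'
  smul_mem' a _ h := ((psh N).obj (op E)).smul_mem (AlgSp.upΓ E a) h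

theorem gsub_eq (E : EtOver X) (hE : IsAffine E.obj.left.left) : gsub N E = N.sub E hE := by
  ext s
  exact mem_psh_affine N E hE s

theorem isBC_gsub (hF : BCaff F) {E E' : EtOver X} (g : E' ⟶ E) (hE : IsAffine E.obj.left.left)
    (hE' : IsAffine E'.obj.left.left) (h : ∀ s ∈ gsub N E, (F.val.presheaf.map g.op).hom s ∈ gsub N E') :
    IsBC g.hom.left.left.appTop.hom
      (K606.BCSub.restr (F.val.presheaf.map g.op).hom (gsub N E) (gsub N E') h) := by
  refine K606.BCSub.isBC_restr (flat_appTop g hE hE') (hF g hE hE') _ _ _ ?_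
  rw [gsub_eq N E hE, gsub_eq N E' hE']
  exact N.le_span g hE hE'

theorem exists_sub (hF : BCaff F) : ∃ (F' : ModEt X) (ι : F' ⟶ F), Mono ι ∧ BCaff F' ∧
    ∀ (E : EtOver X) (hE : IsAffine E.obj.left.left),
      Set.range (ι.val.app (op E)).hom = {s : F.val.presheaf.obj (op E) | s ∈ N.sub E hE} := by
  have hl := isLocal N hF
  refine ⟨K606.SubMod.toSheaf (psh N) hl, K606.SubMod.ι (psh N) hl, inferInstance, ?_, ?_⟩
  · intro E E' g hE hE'
    exact isBC_gsub N hF g hE hE' (fun s hs => (psh N).map g.op hs)
  · intro E hE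
    have h1 := K606.SubMod.range_ι (psh N) hl (op E)
    refine h1.trans ?_
    ext s
    exact mem_psh_affine N E hE s

end K606.AffSub
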