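import Groth.Agent.AlgSp.K606.AffSub

/-!
# The submodule of sections annihilated by a finitely generated quasi-coherent ideal, and of sections annihilated by
a power of it
-/

set_option autoImplicit false
universe u

open CategoryTheory CategoryTheory.Limits AlgebraicGeometry Opposite

namespace K606.AnnSub

open AlgSp K606.AffSub Groth.Agent.Etbase.FFExact

variable {S : Scheme.{u}} {X : Sp S} {F : ModEt X}

/-- The submodule of elements annihilated by an ideal. -/
def ann {A M : Type*} [CommRing A] [AddCommGroup M] [Module A M] (I : Ideal A) : Submodule A M where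
  carrier := {s | ∀ a ∈ I, a • s = 0}
  zero_mem' := fun a _ => smul_zero a
  add_mem' := fun {s t} hs ht a ha => by rw [smul_add, hs a ha, ht a ha, add_zero]
  smul_mem' := fun r s hs a ha => by rw [smul_comm, hs a ha, smul_zero]

theorem mem_ann {A M : Type*} [CommRing A] [AddCommGroup M] [Module A M] (I : Ideal A) (s : M) :
    s ∈ (ann I : Submodule A M) ↔ ∀ a ∈ I, a • s = 0 := Iff.rfl

theorem mem_ann_map {A B M M' : Type*} [CommRing A] [CommRing B] {φ : A →+* B} [AddCommGroup M] [AddCommGroup M']
    [Module A M] [Module B M'] {ψ : M → M'} (h0 : ψ 0 = 0) (hψ : ∀ (a : A) (m : M), ψ (a • m) = φ a • ψ m)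
    (I : Ideal A) (s : M) (hs : s ∈ (ann I : Submodule A M)) : ψ s ∈ (ann (I.map φ) : Submodule B M') := by
  intro b hb
  induction hb using Submodule.span_induction with
  | mem b hb =>
    obtain ⟨a, ha, rfl⟩ := hb
    rw [← hψ, hs a ha, h0]
  | zero => rw [zero_smul]
  | add a b _ _ h1 h2 => rw [add_smul, h1, h2, add_zero]
  | smul c a _ h1 => rw [smul_assoc, h1, smul_zero]

/-- The sections annihilated by a finitely generated ideal sheaf. -/
noncomputable def annSub (hF : BCaff F) (I : IdealEt X) (hI : I.IsQCoh)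
    (hft : ∀ (E : AlgSp.EtOver X) (hE : IsAffine E.obj.left.left), (I.ideal E hE).FG) : Sub F where
  sub E hE := ann (I.ideal E hE)
  map_mem {E E'} g hE hE' s hs := by
    have h1 := mem_ann_map (φ := g.hom.left.left.appTop.hom) (ψ := F.val.presheaf.map g.op) (map_zero _)
      (fun a m => map_smul F g a m) _ s hs
    exact fun b hb => h1 b (hI g hE hE' hb)
  le_span {E E'} g hE hE' := fun s hs => K606.BCSub.mem_span_of_ann (flat_appTop g hE hE') (hF g hE hE') _
    (hft E hE) s fun a ha => hs _ (I.map_le g hE hE' (Ideal.mem_map_of_mem _ ha))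

/-- S10083 in terms of `BCaff`. -/
theorem exists_annSub (hF : BCaff F) (I : IdealEt X) (hI : I.IsQCoh)
    (hft : ∀ (E : AlgSp.EtOver X) (hE : IsAffine E.obj.left.left), (I.ideal E hE).FG) :
    ∃ (F' : AlgSp.ModEt X) (ι : F' ⟶ F), Mono ι ∧ BCaff F' ∧
      ∀ (E : AlgSp.EtOver X) (hE : IsAffine E.obj.left.left),
        Set.range (ι.val.app (op E)).hom =
          {s : AlgSp.sectModEt F E | ∀ a ∈ I.ideal E hE, (AlgSp.upΓ E a) • s = 0} := by
  obtain ⟨F', ι, h1, h2, h3⟩ := exists_sub (annSub hF I hI hft) hF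
  exact ⟨F', ι, h1, h2, fun E hE => h3 E hE⟩

end K606.AnnSub
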