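import Groth.Agent.AlgSp.K606.RepBySp

/-!
# Maps of presheaves representable by algebraic spaces, part 2: diagonals, products, cancellation
-/

universe u

open CategoryTheory CategoryTheory.Limits AlgebraicGeometry Opposite AlgSp

namespace K606.RepBySp2

open K606.PshBasic K606.YonSec K606.EqRep K606.RepBySp

variable {S : Scheme.{u}}

/-- Presheaf version: `IsPullback` from a locus of agreement. -/
theorem isPullback_of_isEqRep {F P : PSp S} {W V : Over S} (δ : F ⟶ P) (p₁ p₂ : P ⟶ F)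
    (h1 : δ ≫ p₁ = 𝟙 _) (h2 : δ ≫ p₂ = 𝟙 _)
    (hinj : ∀ (T : Over S) (x y : P.obj (op T)), p₁.app _ x = p₁.app _ y → p₂.app _ x = p₂.app _ y → x = y)
    (ξ : P.obj (op W)) (i : V ⟶ W) (hi : IsEqRep F (p₁.app _ ξ) (p₂.app _ ξ) i) :
    IsPullback (ofSect (F.map i.op (p₁.app _ ξ))) ((pyon S).map i) δ (ofSect ξ) := by
  have d1 : ∀ (T : Over S) (x : F.obj (op T)), p₁.app _ (δ.app _ x) = x := fun T x => by
    have := congrArg (fun m => m.app (op T) x) h1
    simpa using this
  have d2 : ∀ (T : Over S) (x : F.obj (op T)), p₂.app _ (δ.app _ x) = x := fun T x => by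
    have := congrArg (fun m => m.app (op T) x) h2
    simpa using this
  rw [isPullback_iff_app]
  refine ⟨?_, ?_, ?_⟩
  · rintro T ⟨g⟩
    change δ.app _ ((ofSect _).app _ ⟨g⟩) = (ofSect ξ).app _ ⟨g ≫ i⟩
    rw [ofSect_app, ofSect_app]
    apply hinj
    · rw [d1, nat, map_comp]
    · rw [d2, nat, hi.eq, map_comp]
  · rintro T ⟨g⟩ ⟨g'⟩ - h
    exact ULift.ext _ _ (hi.mono T g g' (congrArg ULift.down h))
  · rintro T x ⟨f⟩ hx
    rw [ofSect_app] at hx
    have e1 : x = F.map f.op (p₁.app _ ξ) := by rw [← nat, ← hx, d1]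
    have e2 : x = F.map f.op (p₂.app _ ξ) := by rw [← nat, ← hx, d2]
    obtain ⟨g, hg⟩ := hi.lift T f (e1.symm.trans e2)
    refine ⟨⟨g⟩, ?_, ?_⟩
    · rw [ofSect_app, map_comp, hg, ← e1]
    · exact ULift.ext _ _ hg

theorem ofSect_surj {G : PSp S} {T : Over S} (ξ : (pyon S).obj T ⟶ G) : ∃ x : G.obj (op T), ξ = ofSect x :=
  ⟨uliftYonedaEquiv.{u + 1} ξ, (uliftYonedaEquiv.{u + 1}.symm_apply_apply ξ).symm⟩

/-- The relative diagonal of a map representable by algebraic spaces is representable by schemes. -/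
theorem relRep_diagonal {F G : PSp S} {a : F ⟶ G} (ha : RepBySp a) :
    (pyon S).relativelyRepresentable (pullback.diagonal a) := by
  intro W ξ
  obtain ⟨ξ, rfl⟩ := ofSect_surj ξ
  have sq := IsPullback.of_hasPullback a a
  obtain ⟨s0, s1, -⟩ := (isPullback_iff_app _ _ _ _).1 sq
  -- the two components are sections of the algebraic space `F ×_G h_W`
  have hP : ∃ (V : Over S) (i : V ⟶ W),
      IsEqRep F ((pullback.fst a a).app _ ξ) ((pullback.snd a a).app _ ξ) i := by
    obtain ⟨P, fst, snd, sq'⟩ : ∃ (P : PSp S) (fst : P ⟶ F) (snd : P ⟶ (pyon S).obj W),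
        IsPullback fst snd a (ofSect (a.app _ ((pullback.fst a a).app _ ξ))) :=
      ⟨_, _, _, IsPullback.of_hasPullback _ _⟩
    obtain ⟨h0, h1, h2⟩ := (isPullback_iff_app _ _ _ _).1 sq'
    obtain ⟨z, hz1, hz2⟩ := h2 W ((pullback.fst a a).app _ ξ) ⟨𝟙 _⟩ (by rw [ofSect_app, map_id])
    obtain ⟨w, hw1, hw2⟩ := h2 W ((pullback.snd a a).app _ ξ) ⟨𝟙 _⟩ (by rw [ofSect_app, map_id, s0])
    obtain ⟨V, i, hi⟩ := hasEqRep_of_isAlgSpaceP (ha _ _ _ sq') z w
    refine ⟨V, i, ?_, ?_, hi.mono⟩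
    · rw [← hz1, ← hw1, ← nat, ← nat, hi.eq]
    · intro T f hf
      refine hi.lift T f ?_
      apply h1
      · rw [nat, nat, hz1, hw1, hf]
      · rw [nat, nat, hz2, hw2]
  obtain ⟨V, i, hi⟩ := hP
  exact ⟨V, i, _, isPullback_of_isEqRep (pullback.diagonal a) (pullback.fst a a) (pullback.snd a a)
    (pullback.diagonal_fst a) (pullback.diagonal_snd a) s1 ξ i hi⟩

theorem repBySp_diagonal {F G : PSp S} {a : F ⟶ G} (ha : RepBySp a) : RepBySp (pullback.diagonal a) :=
  repBySp_of_relativelyRepresentable (relRep_diagonal ha)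

theorem repBySp_prod_map {F₁ G₁ F₂ G₂ : PSp S} {a₁ : F₁ ⟶ G₁} {a₂ : F₂ ⟶ G₂} (h₁ : RepBySp a₁) (h₂ : RepBySp a₂) :
    RepBySp (prod.map a₁ a₂) := by
  have e : prod.map a₁ a₂ = prod.map a₁ (𝟙 _) ≫ prod.map (𝟙 _) a₂ := by simp
  rw [e]
  refine repBySp_comp (repBySp_of_isPullback (fst := prod.fst) (g := prod.fst) ?_ h₁)
    (repBySp_of_isPullback (fst := prod.snd) (g := prod.snd) ?_ h₂)
  · refine IsPullback.of_isLimit' ⟨by simp⟩ ?_
    refine PullbackCone.IsLimit.mk _ (fun s => prod.lift s.fst (s.snd ≫ prod.snd))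
      (fun s => by rw [prod.lift_fst]) (fun s => ?_) (fun s m h1 h2 => ?_)
    · apply Limits.prod.hom_ext
      · rw [Category.assoc, prod.map_fst, prod.lift_fst_assoc, s.condition]
      · rw [Category.assoc, prod.map_snd, prod.lift_snd_assoc, Category.comp_id]
    · apply Limits.prod.hom_ext
      · rw [prod.lift_fst, h1]
      · rw [← h2, Category.assoc, prod.lift_snd, prod.map_snd, Category.comp_id]
  · refine IsPullback.of_isLimit' ⟨by simp⟩ ?_
    refine PullbackCone.IsLimit.mk _ (fun s => prod.lift (s.snd ≫ prod.fst) s.fst)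
      (fun s => by rw [prod.lift_snd]) (fun s => ?_) (fun s m h1 h2 => ?_)
    · apply Limits.prod.hom_ext
      · rw [Category.assoc, prod.map_fst, prod.lift_fst_assoc, Category.comp_id]
      · rw [Category.assoc, prod.map_snd, prod.lift_snd_assoc, s.condition]
    · apply Limits.prod.hom_ext
      · rw [← h2, Category.assoc, prod.lift_fst, prod.map_fst, Category.comp_id]
      · rw [prod.lift_snd, h1]

theorem repBySp_of_comp {F G H : PSp S} {a : F ⟶ G} {b : G ⟶ H} (hΔ : RepBySp (pullback.diagonal b))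
    (hab : RepBySp (a ≫ b)) : RepBySp a := by
  have h1 := pullback_lift_diagonal_isPullback a b
  have h2 := IsPullback.of_hasPullback (a ≫ b) b
  have h3 : a = pullback.lift (𝟙 F) a (by rw [Category.id_comp]) ≫ pullback.snd (a ≫ b) b := by
    rw [pullback.lift_snd]
  rw [h3]
  exact repBySp_comp (repBySp_of_isPullback h1 hΔ) (repBySp_of_isPullback h2 hab)

theorem prod_ext_psh {F G : PSp S} {T : Over S} (x y : (F ⨯ G).obj (op T))
    (h1 : (prod.fst : F ⨯ G ⟶ F).app _ x = (prod.fst : F ⨯ G ⟶ F).app _ y)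
    (h2 : (prod.snd : F ⨯ G ⟶ G).app _ x = (prod.snd : F ⨯ G ⟶ G).app _ y) : x = y := by
  apply (uliftYonedaEquiv.{u + 1} (F := F ⨯ G)).symm.injective
  apply Limits.prod.hom_ext
  · rw [uliftYonedaEquiv_symm_comp, uliftYonedaEquiv_symm_comp, h1]
  · rw [uliftYonedaEquiv_symm_comp, uliftYonedaEquiv_symm_comp, h2]

theorem lift_app_fst {F G : PSp S} {T : Over S} (x : F.obj (op T)) (y : G.obj (op T)) :
    ∃ z : (F ⨯ G).obj (op T), (prod.fst : F ⨯ G ⟶ F).app _ z = x ∧ (prod.snd : F ⨯ G ⟶ G).app _ z = y := by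
  refine ⟨uliftYonedaEquiv.{u + 1} (prod.lift (ofSect x) (ofSect y)), ?_, ?_⟩
  · rw [← uliftYonedaEquiv_comp, prod.lift_fst, Equiv.apply_symm_apply]
  · rw [← uliftYonedaEquiv_comp, prod.lift_snd, Equiv.apply_symm_apply]

theorem diag_fst {F : PSp S} {T : Over S} (x : F.obj (op T)) :
    (prod.fst : F ⨯ F ⟶ F).app _ ((Limits.diag F).app _ x) = x := by
  have := congrArg (fun m => m.app (op T) x) (prod.lift_fst (𝟙 F) (𝟙 F))
  simpa using this

theorem diag_snd {F : PSp S} {T : Over S} (x : F.obj (op T)) :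
    (prod.snd : F ⨯ F ⟶ F).app _ ((Limits.diag F).app _ x) = x := by
  have := congrArg (fun m => m.app (op T) x) (prod.lift_snd (𝟙 F) (𝟙 F))
  simpa using this

theorem repBySp_diag_iff (F : PSp S) :
    RepBySp (Limits.diag F) ↔ ∀ (T : Over S) (ξ : (pyon S).obj T ⟶ F), RepBySp ξ := by
  constructor
  · intro h T ξ U η F' fst snd sq
    obtain ⟨t, rfl⟩ := ofSect_surj ξ
    obtain ⟨x, rfl⟩ := ofSect_surj η
    obtain ⟨s0, s1, s2⟩ := (isPullback_iff_app _ _ _ _).1 sq
    obtain ⟨z, hz1, hz2⟩ := lift_app_fst (F.map (prod.fst : T ⨯ U ⟶ T).op t) (F.map (prod.snd : T ⨯ U ⟶ U).op x)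
    obtain ⟨P, p, q, sq'⟩ : ∃ (P : PSp S) (p : P ⟶ F) (q : P ⟶ (pyon S).obj (T ⨯ U)),
        IsPullback p q (Limits.diag F) (ofSect z) := ⟨_, _, _, IsPullback.of_hasPullback _ _⟩
    have hP := h _ _ _ sq'
    have sq2 : IsPullback (q ≫ (pyon S).map prod.fst) (q ≫ (pyon S).map prod.snd) (ofSect t) (ofSect x) := by
      obtain ⟨r0, r1, r2⟩ := (isPullback_iff_app _ _ _ _).1 sq'
      have a1 : ∀ (V : Over S) (f : V ⟶ T ⨯ U), (prod.fst : F ⨯ F ⟶ F).app _ ((ofSect z).app _ ⟨f⟩) =
          (ofSect t).app (op V) ⟨f ≫ prod.fst⟩ := by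
        intro V f
        rw [ofSect_app, ofSect_app, nat, hz1, map_comp]
      have a2 : ∀ (V : Over S) (f : V ⟶ T ⨯ U), (prod.snd : F ⨯ F ⟶ F).app _ ((ofSect z).app _ ⟨f⟩) =
          (ofSect x).app (op V) ⟨f ≫ prod.snd⟩ := by
        intro V f
        rw [ofSect_app, ofSect_app, nat, hz2, map_comp]
      rw [isPullback_iff_app]
      refine ⟨?_, ?_, ?_⟩
      · intro V w
        change (ofSect t).app (op V) ⟨(q.app _ w).down ≫ prod.fst⟩ = (ofSect x).app (op V) ⟨(q.app _ w).down ≫ prod.snd⟩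
        rw [← a1, ← a2]
        have := r0 V w
        change (Limits.diag F).app _ (p.app _ w) = (ofSect z).app _ ⟨(q.app _ w).down⟩ at this
        rw [← this, diag_fst, diag_snd]
      · intro V w w' h1 h2
        have hq : q.app _ w = q.app _ w' := by
          apply ULift.ext
          apply Limits.prod.hom_ext
          · exact congrArg ULift.down h1
          · exact congrArg ULift.down h2
        refine r1 V w w' ?_ hq
        rw [← diag_fst (p.app _ w), ← diag_fst (p.app _ w'), r0, r0, hq]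
      · rintro V ⟨f⟩ ⟨g⟩ hfg
        obtain ⟨w, hw1, hw2⟩ := r2 V ((ofSect t).app _ ⟨f⟩) ⟨prod.lift f g⟩ (by
          apply prod_ext_psh
          · rw [diag_fst, a1, prod.lift_fst]
          · rw [diag_snd, a2, prod.lift_snd, hfg])
        refine ⟨w, ?_, ?_⟩
        · apply ULift.ext
          change (q.app _ w).down ≫ prod.fst = f
          rw [hw2]
          exact prod.lift_fst _ _
        · apply ULift.ext
          change (q.app _ w).down ≫ prod.snd = g
          rw [hw2]
          exact prod.lift_snd _ _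
    exact hP.of_iso (sq2.isoIsPullback _ _ sq)
  · intro h W η F' fst snd sq
    obtain ⟨z, rfl⟩ := ofSect_surj η
    obtain ⟨s0, s1, s2⟩ := (isPullback_iff_app _ _ _ _).1 sq
    set x := (prod.fst : F ⨯ F ⟶ F).app _ z with hx
    set y := (prod.snd : F ⨯ F ⟶ F).app _ z with hy
    obtain ⟨P, p, q, sq'⟩ : ∃ (P : PSp S) (p : P ⟶ (pyon S).obj W) (q : P ⟶ (pyon S).obj W),
        IsPullback p q (ofSect x) (ofSect y) := ⟨_, _, _, IsPullback.of_hasPullback _ _⟩
    obtain ⟨hPs, hPA⟩ := h _ _ _ _ _ sq'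
    obtain ⟨r0, r1, r2⟩ := (isPullback_iff_app _ _ _ _).1 sq'
    -- `P ⟶ h_{W × W}` and `h_W ⟶ h_{W × W}`
    let P' : Sp S := ⟨P, hPs⟩
    let p' : P' ⟶ (yon S).obj W := ObjectProperty.homMk p
    let q' : P' ⟶ (yon S).obj W := ObjectProperty.homMk q
    have sq3 := IsPullback.of_hasPullback (prod.lift p' q') (Limits.diag ((yon S).obj W))
    have hQ : IsAlgSpace (pullback (prod.lift p' q') (Limits.diag ((yon S).obj W))) := by
      refine isAlgSpace_of_isPullback_of_diag (H := (yon S).obj W ⨯ (yon S).obj W) hPA (IsAlgSpace.yon_obj W) ?_ sq3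
      have := (IsAlgSpace.yon_obj (W ⨯ W)).of_iso (PreservesLimitPair.iso (yon S) W W)
      exact this.diag
    obtain ⟨t0, t1, t2⟩ := (isPullback_sheaf_iff_app _ _ _ _).1 sq3
    -- identify `F'` with this fibre product
    have hp' : ∀ (V : Over S) (w : P.obj (op V)),
        (prod.fst : (yon S).obj W ⨯ (yon S).obj W ⟶ _).hom.app _ ((prod.lift p' q').hom.app (op V) w) = p.app _ w := by
      intro V w
      rw [← comp_app, prod.lift_fst]
      rfl
    have hq' : ∀ (V : Over S) (w : P.obj (op V)),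
        (prod.snd : (yon S).obj W ⨯ (yon S).obj W ⟶ _).hom.app _ ((prod.lift p' q').hom.app (op V) w) = q.app _ w := by
      intro V w
      rw [← comp_app, prod.lift_snd]
      rfl
    let Q := pullback (prod.lift p' q') (Limits.diag ((yon S).obj W))
    let α := (pullback.fst (prod.lift p' q') (Limits.diag ((yon S).obj W)))
    let β := (pullback.snd (prod.lift p' q') (Limits.diag ((yon S).obj W)))
    have k1 : ∀ (V : Over S) (w : Q.obj.obj (op V)), p.app _ (α.hom.app _ w) = β.hom.app _ w := by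
      intro V w
      rw [← hp', t0, diag_fst_app]
    have k2 : ∀ (V : Over S) (w : Q.obj.obj (op V)), q.app _ (α.hom.app _ w) = β.hom.app _ w := by
      intro V w
      rw [← hq', t0, diag_snd_app]
    let β' : Q.obj ⟶ (pyon S).obj W := β.hom
    have sq5 : IsPullback (β' ≫ ofSect x) β' (Limits.diag F) (ofSect z) := by
      have b1 : ∀ (V : Over S) (f : ((pyon S).obj W).obj (op V)), (prod.fst : F ⨯ F ⟶ F).app _ ((ofSect z).app _ f) =
          (ofSect x).app (op V) f := by
        rintro V ⟨f⟩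
        rw [ofSect_app, ofSect_app, nat]
      have b2 : ∀ (V : Over S) (f : ((pyon S).obj W).obj (op V)), (prod.snd : F ⨯ F ⟶ F).app _ ((ofSect z).app _ f) =
          (ofSect y).app (op V) f := by
        rintro V ⟨f⟩
        rw [ofSect_app, ofSect_app, nat]
      refine (isPullback_iff_app (A := Q.obj) (B := F) (C := (pyon S).obj W) _ _ _ _).2 ⟨?_, ?_, ?_⟩
      · intro V w
        apply prod_ext_psh
        · rw [diag_fst, b1]
          rfl
        · rw [diag_snd, b2]
          change (ofSect x).app _ (β.hom.app _ w) = (ofSect y).app _ (β.hom.app _ w)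
          conv_lhs => rw [← k1]
          rw [← k2, r0]
      · intro V w w' _ h2
        refine t1 V w w' (r1 V _ _ ?_ ?_) h2
        · exact (k1 V w).trans (Eq.trans h2 (k1 V w').symm)
        · exact (k2 V w).trans (Eq.trans h2 (k2 V w').symm)
      · intro V v f hvf
        have e1 : v = (ofSect x).app _ f := by rw [← b1, ← hvf, diag_fst]
        have e2 : v = (ofSect y).app _ f := by rw [← b2, ← hvf, diag_snd]
        obtain ⟨w, hw1, hw2⟩ := r2 V f f (e1.symm.trans e2)
        obtain ⟨w', hw'1, hw'2⟩ := t2 V w f (by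
          apply prod_ext
          · exact ((hp' V w).trans hw1).trans (diag_fst_app (F := (yon S).obj W) f).symm
          · exact ((hq' V w).trans hw2).trans (diag_snd_app (F := (yon S).obj W) f).symm)
        refine ⟨w', ?_, hw'2⟩
        rw [e1]
        change (ofSect x).app _ (β.hom.app _ w') = _
        exact congrArg _ hw'2
    exact ((isAlgSpaceP_obj_iff _).2 hQ).of_iso (sq5.isoIsPullback _ _ sq)

end K606.RepBySp2
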