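import Groth.Agent.AlgSp.K606.SepLqf
import Groth.Agent.AlgSp.K606.RepBySp2
import Groth.Agent.AlgSp.K597.LocP
import Groth.Agent.AlgSp.K597.EtLoc
import Groth.Agent.AlgSp.K595.DiagAlg
import Groth.Agent.AlgSp.K596.QC2
import Groth.Agent.AlgSp.K598.RepKit
import Groth.Agent.AlgSp.K634.Charts

/-!
# Bootstrap: base change of maps representable by algebraic spaces, diagonals
-/

set_option autoImplicit false
universe u

open CategoryTheory CategoryTheory.Limits AlgebraicGeometry Opposite

namespace K606.Boot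

open AlgSp K613.Cover K606.LqfDesc K606.SepLqf K606.FCov

variable {S : Scheme.{u}}

theorem isAlgSpace_prod {X Y : Sp S} (hX : IsAlgSpace X) (hY : IsAlgSpace Y) : IsAlgSpace (X ⨯ Y) := by
  have sq : IsPullback (prod.fst : X ⨯ Y ⟶ X) prod.snd ((K596.QC2.isTerminalYon S).from X)
      ((K596.QC2.isTerminalYon S).from Y) :=
    IsPullback.of_isLimit_binaryFan_of_isTerminal (limit.isLimit _) (K596.QC2.isTerminalYon S)
  exact K606.RepBySp.isAlgSpace_of_isPullback_of_diag hX hY (IsAlgSpace.yon_obj _).diag sq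

/-- A monomorphism which is locally of finite type (on charts) is locally quasi-finite (on charts). -/
theorem locP_lqf_of_mono {Z G : Sp S} (q : Z ⟶ G) [Mono q] (h : LocP @LocallyOfFiniteType q) :
    LocP (@LocallyQuasiFinite ⊓ @LocallyOfFiniteType) q := by
  intro U V a b k ha hb w
  have h1 : FormallyUnramified k.left :=
    K634.Charts.chart_unramified ha w K634.Formal.unramified_of_mono
  have h2 : LocallyOfFiniteType k.left := h a b k ha hb w
  exact ⟨K597.locallyQuasiFinite_of_unramified _, h2⟩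

theorem isSeparatedMor_of_mono {Z G : Sp S} (q : Z ⟶ G) [Mono q] : IsSeparatedMor q :=
  K598.RepKit.repWith_of_isIso (pullback.diagonal q)

theorem repWith_sepLqf_of_mono (h259 : SepLqfSch S) {E G : Sp S} (hE : IsAlgSpace E) (hG : IsAlgSpace G)
    (a : E ⟶ G) [Mono a] (ha : LocP @LocallyOfFiniteType a) : RepWith SepLqf a := by
  refine repWith_of_repBySpWith h259 ((repBySpWith_hom_iff _ a).2 fun T ξ F' fst snd sq => ?_)
  have hF' : IsAlgSpace F' :=
    K606.RepBySp.isAlgSpace_of_isPullback_of_diag hE (IsAlgSpace.yon_obj T) hG.diag sq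
  have hm : Mono snd := (MorphismProperty.monomorphisms (Sp S)).of_isPullback sq ‹Mono a›
  exact ⟨hF', isSeparatedMor_of_mono snd, locP_lqf_of_mono snd
    (K597.locP_bc K597.etLoc_lft sq hE.hasAtlas hG.hasAtlas (IsAlgSpace.yon_obj T).hasAtlas ha)⟩

/-- Base change of a map representable by algebraic spaces with a property `P` (on charts) along a map from an
algebraic space. -/
theorem isAlgSpace_and_locP {P : MorphismProperty Scheme.{u}} (hP : K597.EtLoc P) {F G Y Z : Sp S}
    {p : F ⟶ G} (hp : RepBySpWith (LocP P) p.hom) (hY : IsAlgSpace Y) {g : Y ⟶ G} {fst : Z ⟶ F} {snd : Z ⟶ Y}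
    (sq : IsPullback fst snd p g) : IsAlgSpace Z ∧ LocP P snd := by
  have hZ : IsAlgSpace Z := by
    have := K606.RepBySp.isAlgSpaceP_of_repBySp snd.hom
      (K606.RepBySp.repBySp_of_isPullback (sq.map (sheafToPresheaf (J S) (Type (u + 1)))) hp.repBySp)
      ((isAlgSpaceP_obj_iff Y).2 hY)
    exact (isAlgSpaceP_obj_iff Z).1 this
  refine ⟨hZ, ?_⟩
  obtain ⟨V, v, hv, hvs⟩ := hY.atlas
  have sq1 := IsPullback.of_hasPullback snd v
  obtain ⟨h1, h2⟩ := (repBySpWith_hom_iff _ p).1 hp (v ≫ g) _ _ (sq1.paste_horiz sq)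
  exact K597.locP_of_target hP sq1 hZ.hasAtlas (IsAlgSpace.yon_obj V).hasAtlas hv hvs h2

theorem fSurj_prodMap {F G F' G' : Sp S} {p : F ⟶ G} {q : F' ⟶ G'} (hp : FSurj p) (hq : FSurj q) :
    FSurj (prod.map p q) := by
  intro T g
  obtain ⟨T₁, c₁, h₁, hc₁, hh₁⟩ := hp T (g ≫ prod.fst)
  obtain ⟨T₂, c₂, h₂, hc₂, hh₂⟩ := hq T₁ ((yon S).map c₁ ≫ g ≫ prod.snd)
  refine ⟨T₂, c₂ ≫ c₁, prod.lift ((yon S).map c₂ ≫ h₁) h₂, hc₁.comp hc₂, ?_⟩
  apply Limits.prod.hom_ext
  · rw [prod.lift_map, prod.lift_fst, Category.assoc, hh₁, Functor.map_comp, Category.assoc, Category.assoc]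
  · rw [prod.lift_map, prod.lift_snd, hh₂, Functor.map_comp, Category.assoc, Category.assoc]

/-- S10099, relative to S10259 : a sheaf with a flat surjective locally finitely presented map from an algebraic
space, representable by algebraic spaces, has representable diagonal. -/
theorem repWith_diag (h259 : SepLqfSch S) {F X : Sp S} (hX : IsAlgSpace X) {p : X ⟶ F} (hp : FSurj p)
    (hp' : RepBySpWith (LocP @LocallyOfFiniteType) p.hom) : RepWith SepLqf (Limits.diag F) := by
  have sq0 := IsPullback.of_hasPullback p p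
  obtain ⟨hE, hl⟩ := isAlgSpace_and_locP K597.etLoc_lft hp' hX sq0
  have sq := K595.DiagAlg.isPullback_diag_prodMap sq0
  have hm : Mono (prod.lift (pullback.fst p p) (pullback.snd p p)) :=
    (MorphismProperty.monomorphisms (Sp S)).of_isPullback sq (inferInstanceAs (Mono (Limits.diag F)))
  have hXX := isAlgSpace_prod hX hX
  have hlft : LocP @LocallyOfFiniteType (prod.lift (pullback.fst p p) (pullback.snd p p)) := by
    refine K597.locP_of_comp' K597.etLoc_lft (g := prod.snd) ?_ hE.hasAtlas hXX.hasAtlas hX.hasAtlas ?_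
    · intro A B C f g h
      exact locallyOfFiniteType_of_comp f g
    · rw [prod.lift_snd]; exact hl
  exact repWith_of_fSurj sq (fSurj_prodMap hp hp) (repWith_sepLqf_of_mono h259 hE hXX _ hlft)

theorem repBySpWith_mono {Q Q' : MorphismProperty (Sp S)} {F G : Sp S} {p : F ⟶ G} (h : RepBySpWith Q p.hom)
    (hQ : ∀ {T : Over S} {F' : Sp S} (q : F' ⟶ (yon S).obj T), IsAlgSpace F' → Q q → Q' q) :
    RepBySpWith Q' p.hom := by
  rw [repBySpWith_hom_iff] at h ⊢
  intro T ξ F' fst snd sq
  obtain ⟨h1, h2⟩ := h ξ fst snd sq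
  exact ⟨h1, hQ snd h1 h2⟩

theorem locP_lft_of_lfp {F G : Sp S} {f : F ⟶ G} (h : LocP @LocallyOfFinitePresentation f) :
    LocP @LocallyOfFiniteType f := fun U V a b k ha hb w => by
  have := h a b k ha hb w
  infer_instance

theorem locP_lft_of_etale {F G : Sp S} {f : F ⟶ G} (h : IsEtaleMor f) :
    LocP @LocallyOfFiniteType f := fun U V a b k ha hb w => by
  have : Etale k.left := K597.locP_etale_of_isEtaleMor h a b k ha hb w
  infer_instance

theorem s10099 (h259 : SepLqfSch S) {F X : Sp S} (hX : IsAlgSpace X) {p : X ⟶ F}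
    (hp : RepBySpWith (IsSurjectiveMor ⊓ LocP @Flat ⊓ LocP @LocallyOfFinitePresentation) p.hom) :
    RepWith SepLqf (Limits.diag F) :=
  repWith_diag h259 hX (fSurj_of_repBySpWith hp)
    (repBySpWith_mono hp fun _ _ h => locP_lft_of_lfp h.2)

/-- S10101, relative to S10259. -/
theorem isAlgSpace_of_etale (h259 : SepLqfSch S) {F X : Sp S} (hX : IsAlgSpace X) {p : X ⟶ F}
    (hp : RepBySpWith (IsSurjectiveMor ⊓ IsEtaleMor) p.hom) : IsAlgSpace F := by
  have hd : RepWith SepLqf (Limits.diag F) :=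
    repWith_diag h259 hX (eSurj_of_repBySpWith hp).fSurj
      (repBySpWith_mono hp fun _ _ h => locP_lft_of_etale h.2)
  obtain ⟨U, a, ha, has⟩ := hX.atlas
  have hrep : Representable (a ≫ p) := Functor.relativelyRepresentable.of_diag hd.1 _
  have key : ∀ (T V : Over S) (g : (yon S).obj T ⟶ F) (fst : (yon S).obj V ⟶ (yon S).obj U) (snd : V ⟶ T),
      IsPullback fst ((yon S).map snd) (a ≫ p) g → Etale snd.left ∧ Surjective snd.left := by
    intro T V g fst snd sq
    obtain ⟨h1, h2, h3⟩ := (repBySpWith_hom_iff _ p).1 hp g _ _ (IsPullback.of_hasPullback p g)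
    let φ : (yon S).obj V ⟶ pullback p g := pullback.lift (fst ≫ a) ((yon S).map snd) (by
      rw [Category.assoc, sq.w])
    have hφ : φ ≫ pullback.snd p g = (yon S).map snd := pullback.lift_snd _ _ _
    have sq2 : IsPullback fst φ a (pullback.fst p g) := by
      refine IsPullback.of_bot ?_ (pullback.lift_fst _ _ _).symm (IsPullback.of_hasPullback p g)
      rw [hφ]
      exact sq
    have he : RepWith @Etale φ := K597.repWith_bc _ sq2 ha
    have hs : RepWith @Surjective φ := K597.repWith_bc _ sq2 has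
    constructor
    · have := h3 φ he
      rw [hφ] at this
      exact (repWith_yon_map_iff _ _).1 this
    · have h4 : RepWith @Surjective ((yon S).map snd) := by
        rw [K596.Pts.repWith_surjective_iff (representable_of_yon _), ← hφ]
        exact (funext fun x => Points.map_comp φ _ x : Points.map (φ ≫ pullback.snd p g) = _) ▸
          h2.comp (K596.Pts.surjective_of_repWith hs)
      exact (repWith_yon_map_iff _ _).1 h4
  exact ⟨hd.1, U, a ≫ p, ⟨hrep, fun T V g fst snd sq => (key _ _ g fst snd sq).1⟩,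
    ⟨hrep, fun T V g fst snd sq => (key _ _ g fst snd sq).2⟩⟩

end K606.Boot
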