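import Groth.Agent.AlgSp.K606.YonSec

/-!
# Representability of diagonals, elementwise

`HasEqRep F`: for every scheme `W` over `S` and sections `p q ∈ F(W)`, the locus where `p = q` is representable by a
scheme over `W`.  For a sheaf this is representability of the diagonal.
-/

universe u

open CategoryTheory CategoryTheory.Limits AlgebraicGeometry Opposite AlgSp

namespace K606.EqRep

open K606.PshBasic K606.YonSec

variable {S : Scheme.{u}}

/-- `i : V ⟶ W` represents the locus where the sections `p, q` of `F` over `W` agree. -/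
structure IsEqRep (F : PSp S) {W V : Over S} (p q : F.obj (op W)) (i : V ⟶ W) : Prop where
  eq : F.map i.op p = F.map i.op q
  lift : ∀ (T : Over S) (f : T ⟶ W), F.map f.op p = F.map f.op q → ∃ g : T ⟶ V, g ≫ i = f
  mono : ∀ (T : Over S) (g g' : T ⟶ V), g ≫ i = g' ≫ i → g = g'

/-- Loci of agreement of two sections are representable. -/
def HasEqRep (F : PSp S) : Prop :=
  ∀ ⦃W : Over S⦄ (p q : F.obj (op W)), ∃ (V : Over S) (i : V ⟶ W), IsEqRep F p q i

/-- Sections of a product of sheaves are determined by their components. -/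
theorem prod_ext {F G : Sp S} {T : Over S} (x y : (F ⨯ G).obj.obj (op T))
    (h1 : (prod.fst : F ⨯ G ⟶ F).hom.app _ x = (prod.fst : F ⨯ G ⟶ F).hom.app _ y)
    (h2 : (prod.snd : F ⨯ G ⟶ G).hom.app _ x = (prod.snd : F ⨯ G ⟶ G).hom.app _ y) : x = y := by
  apply ofSec_injective
  apply Limits.prod.hom_ext
  · rw [ofSec_comp, ofSec_comp, h1]
  · rw [ofSec_comp, ofSec_comp, h2]

theorem diag_fst_app {F : Sp S} {T : Over S} (x : F.obj.obj (op T)) :
    (prod.fst : F ⨯ F ⟶ F).hom.app _ ((Limits.diag F).hom.app _ x) = x := by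
  rw [← comp_app, prod.lift_fst]
  rfl

theorem diag_snd_app {F : Sp S} {T : Over S} (x : F.obj.obj (op T)) :
    (prod.snd : F ⨯ F ⟶ F).hom.app _ ((Limits.diag F).hom.app _ x) = x := by
  rw [← comp_app, prod.lift_snd]
  rfl

/-- Representability of the diagonal of a sheaf, elementwise. -/
theorem representable_diag_iff (F : Sp S) : Representable (Limits.diag F) ↔ HasEqRep F.obj := by
  constructor
  · intro h W p q
    obtain ⟨V, i, fst, sq⟩ := h (prod.lift (ofSec p) (ofSec q))
    have e1 : fst = (yon S).map i ≫ ofSec p := by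
      have := congrArg (· ≫ (prod.fst : F ⨯ F ⟶ F)) sq.w
      simp only [Category.assoc, prod.lift_fst, Category.comp_id] at this
      exact this
    have e2 : fst = (yon S).map i ≫ ofSec q := by
      have := congrArg (· ≫ (prod.snd : F ⨯ F ⟶ F)) sq.w
      simp only [Category.assoc, prod.lift_snd, Category.comp_id] at this
      exact this
    refine ⟨V, i, ?_, ?_, ?_⟩
    · have := e1.symm.trans e2
      rw [map_comp_ofSec, map_comp_ofSec] at this
      exact ofSec_injective this
    · intro T f hf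
      have hw : ((yon S).map f ≫ ofSec p) ≫ Limits.diag F = (yon S).map f ≫ prod.lift (ofSec p) (ofSec q) := by
        apply Limits.prod.hom_ext
        · simp only [Category.assoc, prod.lift_fst, Category.comp_id]
        · simp only [Category.assoc, prod.lift_snd, Category.comp_id]
          rw [map_comp_ofSec, map_comp_ofSec, hf]
      obtain ⟨g, hg⟩ := (yon S).map_surjective (sq.lift _ _ hw)
      refine ⟨g, (yon S).map_injective ?_⟩
      rw [Functor.map_comp, hg]
      exact sq.lift_snd _ _ _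
    · intro T g g' hg
      apply (yon S).map_injective
      apply sq.hom_ext
      · rw [e1, ← Category.assoc, ← Category.assoc, ← Functor.map_comp, ← Functor.map_comp, hg]
      · rw [← Functor.map_comp, ← Functor.map_comp, hg]
  · intro h W ξ
    obtain ⟨V, i, hi⟩ := h (sec (ξ ≫ prod.fst)) (sec (ξ ≫ prod.snd))
    have key1 : ∀ (T : Over S) (f : T ⟶ W), (prod.fst : F ⨯ F ⟶ F).hom.app _ (ξ.hom.app (op T) (up f)) =
        F.obj.map f.op (sec (ξ ≫ prod.fst)) := by
      intro T f
      rw [← app_up, comp_app]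
    have key2 : ∀ (T : Over S) (f : T ⟶ W), (prod.snd : F ⨯ F ⟶ F).hom.app _ (ξ.hom.app (op T) (up f)) =
        F.obj.map f.op (sec (ξ ≫ prod.snd)) := by
      intro T f
      rw [← app_up, comp_app]
    refine ⟨V, i, (yon S).map i ≫ ξ ≫ prod.fst, ?_⟩
    rw [isPullback_sheaf_iff_app]
    have e : ∀ (T : Over S) (g : T ⟶ V), ((yon S).map i ≫ ξ ≫ prod.fst).hom.app (op T) (up g) =
          F.obj.map (g ≫ i).op (sec (ξ ≫ prod.fst)) := by
      intro T g
      rw [app_up, sec_map_comp, map_comp]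
    refine ⟨?_, ?_, ?_⟩
    · intro T g
      rw [← up_dn g]
      apply prod_ext
      · rw [diag_fst_app, e, yon_map_up, key1]
      · rw [diag_snd_app, e, yon_map_up, key2, ← map_comp, ← map_comp, hi.eq]
    · intro T g g' _ h2
      apply dn_injective
      exact hi.mono T _ _ (up_injective h2)
    · intro T x f hx
      have hx1 : x = F.obj.map (dn f).op (sec (ξ ≫ prod.fst)) := by
        rw [← key1, up_dn, ← hx, diag_fst_app]
      have hx2 : x = F.obj.map (dn f).op (sec (ξ ≫ prod.snd)) := by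
        rw [← key2, up_dn, ← hx, diag_snd_app]
      obtain ⟨g, hg⟩ := hi.lift T (dn f) (hx1.symm.trans hx2)
      refine ⟨up g, ?_, ?_⟩
      · rw [e, hg, ← hx1]
      · rw [yon_map_up, hg, up_dn]

/-- An algebraic space has representable loci of agreement. -/
theorem hasEqRep_of_isAlgSpace {F : Sp S} (h : IsAlgSpace F) : HasEqRep F.obj := (representable_diag_iff F).1 h.diag

theorem hasEqRep_of_isAlgSpaceP {F : PSp S} (h : IsAlgSpaceP F) : HasEqRep F := by
  obtain ⟨h', hF⟩ := h
  exact hasEqRep_of_isAlgSpace hF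

/-- Composition of loci of agreement: first agree in a family of coarser invariants, then in the rest. -/
theorem hasEqRep_of_jointly_injective {F F₁ F₂ : PSp S} (a : F ⟶ F₁) (b : F ⟶ F₂)
    (hinj : ∀ (T : Over S) (x y : F.obj (op T)), a.app _ x = a.app _ y → b.app _ x = b.app _ y → x = y)
    (h₁ : HasEqRep F₁) (h₂ : HasEqRep F₂) : HasEqRep F := by
  intro W p q
  obtain ⟨V₁, i₁, hi₁⟩ := h₁ (a.app _ p) (a.app _ q)
  obtain ⟨V₂, i₂, hi₂⟩ := h₂ (b.app _ (F.map i₁.op p)) (b.app _ (F.map i₁.op q))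
  refine ⟨V₂, i₂ ≫ i₁, ?_, ?_, ?_⟩
  · rw [← map_comp, ← map_comp]
    apply hinj
    · rw [nat a i₂, nat a i₂, nat a i₁, nat a i₁, hi₁.eq]
    · rw [nat b i₂, nat b i₂, hi₂.eq]
  · intro T f hf
    obtain ⟨g₁, hg₁⟩ := hi₁.lift T f (by rw [← nat, ← nat, hf])
    obtain ⟨g₂, hg₂⟩ := hi₂.lift T g₁ (by rw [← nat, ← nat, map_comp, map_comp, hg₁, hf])
    exact ⟨g₂, by rw [← Category.assoc, hg₂, hg₁]⟩
  · intro T g g' h
    apply hi₂.mono
    apply hi₁.mono
    simpa using h

/-- If `a : F ⟶ G` is representable by algebraic spaces and `G` has representable loci of agreement, so does `F`. -/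
theorem hasEqRep_of_repBySp {F G : PSp S} (a : F ⟶ G) (ha : RepBySp a) (hG : HasEqRep G) : HasEqRep F := by
  intro W p q
  obtain ⟨V₁, i₁, hi₁⟩ := hG (a.app _ p) (a.app _ q)
  obtain ⟨P, fst, snd, sq⟩ : ∃ (P : PSp S) (fst : P ⟶ F) (snd : P ⟶ (pyon S).obj V₁),
      IsPullback fst snd a (ofSect (a.app _ (F.map i₁.op p))) := ⟨_, _, _, IsPullback.of_hasPullback _ _⟩
  have hA := hasEqRep_of_isAlgSpaceP (ha _ _ _ sq)
  obtain ⟨h0, h1, h2⟩ := (isPullback_iff_app _ _ _ _).1 sq
  obtain ⟨z, hz1, hz2⟩ := h2 V₁ (F.map i₁.op p) ⟨𝟙 _⟩ (by rw [ofSect_app, map_id])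
  obtain ⟨w, hw1, hw2⟩ := h2 V₁ (F.map i₁.op q) ⟨𝟙 _⟩ (by rw [ofSect_app, map_id, nat, nat, hi₁.eq])
  obtain ⟨V₂, i₂, hi₂⟩ := hA z w
  refine ⟨V₂, i₂ ≫ i₁, ?_, ?_, ?_⟩
  · rw [← map_comp, ← map_comp, ← hz1, ← hw1, ← nat, ← nat, hi₂.eq]
  · intro T f hf
    obtain ⟨g₁, hg₁⟩ := hi₁.lift T f (by rw [← nat, ← nat, hf])
    obtain ⟨g₂, hg₂⟩ := hi₂.lift T g₁ (by
      apply h1
      · rw [nat, nat, hz1, hw1, map_comp, map_comp, hg₁, hf]
      · rw [nat, nat, hz2, hw2])
    exact ⟨g₂, by rw [← Category.assoc, hg₂, hg₁]⟩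
  · intro T g g' h
    apply hi₂.mono
    apply hi₁.mono
    simpa using h

end K606.EqRep
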