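import Groth.Agent.AlgSp.K606.QCMain
import Groth.Agent.AlgSp.K612.ResEt

/-!
# Extension of quasi-coherent submodules of finite type of the restriction to an open subspace
-/

set_option autoImplicit false
universe u

set_option backward.isDefEq.respectTransparency false

open CategoryTheory CategoryTheory.Limits AlgebraicGeometry Opposite

namespace K606.ExtRes

open AlgSp K646.EtSite K606.AffSub K606.Part K606.UnionMod K606.ElemBridge K612.ResEt

variable {S : Scheme.{u}} {X U : Sp S}

section

variable {j : U ⟶ X} (he : IsEtaleMor j) {F : ModEt X} {G : ModEt U} (g : G ⟶ (resModEt he).obj F)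

theorem res_smul (E : EtOver U) (a : Γ(E.obj.left.left, ⊤))
    (s : F.val.presheaf.obj (op ((EtOver.postcomp j he).obj E))) :
    (show F.val.presheaf.obj (op ((EtOver.postcomp j he).obj E)) from
      a • (show ((resModEt he).obj F).val.presheaf.obj (op E) from s)) =
      (show Γ(((EtOver.postcomp j he).obj E).obj.left.left, ⊤) from a) • s := rfl

/-- The image of `g` over an object of the small étale site of `U`. -/
noncomputable def img (E : EtOver U) :
    Submodule Γ(((EtOver.postcomp j he).obj E).obj.left.left, ⊤)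
      (F.val.presheaf.obj (op ((EtOver.postcomp j he).obj E))) where
  carrier := Set.range (lin g E)
  zero_mem' := ⟨0, map_zero _⟩
  add_mem' := by
    rintro _ _ ⟨a, rfl⟩ ⟨b, rfl⟩
    exact ⟨a + b, map_add _ _ _⟩
  smul_mem' := by
    rintro r _ ⟨a, rfl⟩
    exact ⟨(show Γ(E.obj.left.left, ⊤) from r) • a, _root_.map_smul (lin g E) _ _⟩

theorem mem_img (E : EtOver U) (s : F.val.presheaf.obj (op ((EtOver.postcomp j he).obj E))) :
    s ∈ img he g E ↔ ∃ t, lin g E t = s := Iff.rfl

theorem img_map {E E' : EtOver U} (φ : E' ⟶ E) {s : F.val.presheaf.obj (op ((EtOver.postcomp j he).obj E))}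
    (hs : s ∈ img he g E) : F.val.presheaf.map ((EtOver.postcomp j he).map φ).op s ∈ img he g E' := by
  obtain ⟨t, rfl⟩ := hs
  exact ⟨G.val.presheaf.map φ.op t, lin_map g φ t⟩

theorem img_le (hG : BCaff G) {E E' : EtOver U} (φ : E' ⟶ E) (hE : IsAffine E.obj.left.left)
    (hE' : IsAffine E'.obj.left.left) :
    img he g E' ≤ ext ((EtOver.postcomp j he).map φ) (img he g E) := by
  rintro _ ⟨t, rfl⟩
  have h1 := mem_ext_top hG φ hE hE' t
  induction h1 using Submodule.span_induction with
  | mem t ht =>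
    obtain ⟨u, -, rfl⟩ := ht
    have h3 : lin g E' ((G.val.presheaf.map φ.op).hom u) =
        F.val.presheaf.map ((EtOver.postcomp j he).map φ).op (lin g E u) := lin_map g φ u
    rw [h3]
    exact map_mem_ext _ _ ⟨u, rfl⟩
  | zero => rw [map_zero]; exact Submodule.zero_mem _
  | add a b _ _ ha hb => rw [map_add]; exact Submodule.add_mem _ ha hb
  | smul r a _ ha => rw [_root_.map_smul]; exact Submodule.smul_mem _ _ ha

/-- The family over the points of `U`. -/
noncomputable def famSub (E : EtOver X) : Submodule Γ(E.obj.left.left, ⊤) (F.val.presheaf.obj (op E)) :=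
  ⨅ (E' : EtOver U) (_ : IsAffine E'.obj.left.left) (φ : (EtOver.postcomp j he).obj E' ⟶ E), comap φ (img he g E')

theorem mem_famSub (E : EtOver X) (s : F.val.presheaf.obj (op E)) :
    s ∈ famSub he g E ↔ ∀ (E' : EtOver U) (_ : IsAffine E'.obj.left.left) (φ : (EtOver.postcomp j he).obj E' ⟶ E),
      F.val.presheaf.map φ.op s ∈ img he g E' := by
  simp only [famSub, Submodule.mem_iInf, mem_comap]

end

section

variable {j : U ⟶ X} (hj : RepWith @IsOpenImmersion j) (he : IsEtaleMor j)

include hj in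
/-- An object over `X` lying over the points of `U` comes from `U`. -/
theorem exists_lift (E : EtOver X) (hE : In (Set.range (Points.map j)) E) :
    ∃ (E' : EtOver U) (i : (EtOver.postcomp j he).obj E' ≅ E), E'.obj.left = E.obj.left ∧
      (IsAffine E.obj.left.left → IsAffine E'.obj.left.left) ∧
      ∀ (E'' : EtOver U) (φ : (EtOver.postcomp j he).obj E'' ⟶ E), ∃ ψ : E'' ⟶ E',
        (EtOver.postcomp j he).map ψ ≫ i.hom = φ := by
  have hmono := K610.Factor.mono_of_isOpenImmersion hj
  obtain ⟨a, ha⟩ := mem_range_of_In hj hE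
  have sq : IsPullback a (𝟙 _) j E.obj.hom := by
    refine ⟨⟨by rw [ha, Category.id_comp]⟩, ⟨PullbackCone.IsLimit.mk _ (fun s => s.snd) (fun s => ?_)
      (fun s => Category.comp_id _) (fun s m h1 h2 => ?_)⟩⟩
    · rw [← cancel_mono j, Category.assoc, ha]
      exact s.condition.symm
    · rw [← h2, Category.comp_id]
  have hea : RepWith @Etale a := MorphismProperty.of_isPullback (P := RepWith @Etale) sq.flip E.property
  refine ⟨EtOver.mk a hea, ⟨EtOver.homMk (𝟙 _) ?_, EtOver.homMk (𝟙 _) ?_, ?_, ?_⟩, rfl, fun h => h, ?_⟩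
  · rw [(yon S).map_id, Category.id_comp]
    exact ha.symm
  · rw [(yon S).map_id, Category.id_comp]
    exact ha
  · exact EtOver.hom_ext _ _ (Category.id_comp _)
  · exact EtOver.hom_ext _ _ (Category.id_comp _)
  · intro E'' φ
    refine ⟨EtOver.homMk φ.hom.left ?_, EtOver.hom_ext _ _ (Category.comp_id _)⟩
    rw [← cancel_mono j]
    have h1 := EtOver.w φ
    change ((yon S).map φ.hom.left ≫ a) ≫ j = E''.obj.hom ≫ j
    rw [Category.assoc, ha]
    exact h1

end

section main

variable {j : U ⟶ X} (hj : RepWith @IsOpenImmersion j) (he : IsEtaleMor j) {F : ModEt X} {G : ModEt U}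
  (g : G ⟶ (resModEt he).obj F)

theorem famSub_eq (E : EtOver X) (E' : EtOver U) (hE' : IsAffine E'.obj.left.left)
    (i : (EtOver.postcomp j he).obj E' ≅ E)
    (hi : ∀ (E'' : EtOver U) (φ : (EtOver.postcomp j he).obj E'' ⟶ E), ∃ ψ : E'' ⟶ E',
        (EtOver.postcomp j he).map ψ ≫ i.hom = φ) : famSub he g E = comap i.hom (img he g E') := by
  ext s
  rw [mem_famSub, mem_comap]
  refine ⟨fun h => h E' hE' i.hom, fun h E'' _ φ => ?_⟩
  obtain ⟨ψ, rfl⟩ := hi E'' φ
  rw [← map_map]
  exact img_map he g ψ h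

include hj in
/-- over objects of `U` -/
theorem famSub_postcomp (E : EtOver U) (hE : IsAffine E.obj.left.left) :
    famSub he g ((EtOver.postcomp j he).obj E) = img he g E := by
  have hmono := K610.Factor.mono_of_isOpenImmersion hj
  rw [famSub_eq he g _ E hE (Iso.refl _)]
  · ext s
    rw [mem_comap]
    change F.val.presheaf.map (𝟙 _).op s ∈ _ ↔ _
    rw [Part.map_id]
  · intro E'' φ
    refine ⟨EtOver.homMk φ.hom.left ?_, EtOver.hom_ext _ _ (Category.comp_id _)⟩
    rw [← cancel_mono j]
    have h1 := EtOver.w φ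
    rw [Category.assoc]
    exact h1

theorem comap_iso {E E' : EtOver X} (i : E' ≅ E) (N : Submodule Γ(E'.obj.left.left, ⊤) (F.val.presheaf.obj (op E'))) :
    comap i.hom N = ext i.inv N := by
  apply le_antisymm
  · intro s hs
    rw [mem_comap] at hs
    have h1 := map_mem_ext i.inv N hs
    rw [map_map, i.inv_hom_id, Part.map_id] at h1
    exact h1
  · refine ext_le _ _ fun s hs => ?_
    rw [mem_comap, map_map, i.hom_inv_id, Part.map_id]
    exact hs

/-- The family of a submodule of the restriction. -/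
noncomputable def fam (hG : BCaff G) : PSub F (Set.range (Points.map j)) where
  sub E _ := famSub he g E
  map_mem {E E'} k hE hE' _ s hs := by
    rw [mem_famSub] at hs ⊢
    intro E'' hE'' φ
    rw [map_map]
    exact hs E'' hE'' _
  le_ext {E E'} k hE hE' hT := by
    obtain ⟨A, i, -, hA, hi⟩ := exists_lift hj he E hT
    obtain ⟨A', i', -, hA', hi'⟩ := exists_lift hj he E' (hT.down k)
    obtain ⟨ψ, hψ⟩ := hi A' (i'.hom ≫ k)
    rw [famSub_eq he g E A (hA hE) i hi, famSub_eq he g E' A' (hA' hE') i' hi', comap_iso, comap_iso,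
      ext_comp]
    refine (ext_mono _ (img_le he g hG ψ (hA hE) (hA' hE'))).trans ?_
    rw [ext_comp]
    have h1 : i'.inv ≫ (EtOver.postcomp j he).map ψ = k ≫ i.inv := by
      rw [Iso.inv_comp_eq, ← Category.assoc, ← hψ, Category.assoc, i.hom_inv_id, Category.comp_id]
    rw [h1]

theorem fam_FG (hG : BCaff G) [G.IsQuasicoherent] [G.IsFiniteType] : (fam hj he g hG).FG := by
  intro E hE hT
  obtain ⟨A, i, -, hA, hi⟩ := exists_lift hj he E hT
  change (famSub he g E).FG
  rw [famSub_eq he g E A (hA hE) i hi, comap_iso]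
  refine ext_fg _ ?_
  have h1 : Module.Finite Γ(A.obj.left.left, ⊤) (G.val.presheaf.obj (op A)) := K644.ChartFin.finite_sec G (hA hE)
  have h2 : (⊤ : Submodule Γ(A.obj.left.left, ⊤) (G.val.presheaf.obj (op A))).FG := h1.fg_top
  have h3 := h2.map (lin g A)
  rw [Submodule.map_top] at h3
  exact h3

theorem mono_res_map {G' : ModEt X} (g' : G' ⟶ F) [Mono g'] : Mono ((resModEt he).map g') := by
  refine K645.Ex.mono_of_injective _ fun E x hx => ?_
  have h1 : lin g' ((EtOver.postcomp j he).obj E) x = 0 := hx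
  exact injective_lin g' _ (h1.trans (map_zero _).symm)

end main

section

variable [QuasiSeparatedSpace ↥S] {X U : Space S} (hqc : AlgSp.IsQuasiCompactSp X.obj)
  (hqs : AlgSp.IsQuasiSeparatedSp X.obj) (j : U ⟶ X) (hj : AlgSp.RepWith @IsOpenImmersion j.hom)
  (hU : AlgSp.IsQuasiCompactSp U.obj) (he : IsEtaleMor j.hom)
  {F : AlgSp.ModEt X.obj} [F.IsQuasicoherent] {G : AlgSp.ModEt U.obj} (g : G ⟶ (resModEt he).obj F) [Mono g]
  [G.IsQuasicoherent] [G.IsFiniteType]

include hqc hqs hj hU in
/-- Extension of quasi-coherent submodules of finite type of the restriction to a quasi-compact open subspace. -/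
theorem exists_extension :
    ∃ (G' : AlgSp.ModEt X.obj) (g' : G' ⟶ F), Mono g' ∧ G'.IsQuasicoherent ∧ G'.IsFiniteType ∧
      ∃ e : (resModEt he).obj G' ≅ G, e.hom ≫ g = (resModEt he).map g' := by
  have hG : BCaff G := K606.QcSub.bcaff G
  obtain ⟨N', hN', h1⟩ := K606.QCMain.exists_ext hqc hqs (K606.QcSub.bcaff F) U j hj hU (fam hj he g hG)
    (fam_FG hj he g hG)
  obtain ⟨G', g', hg', hqc', h2, h3⟩ := exists_module N'
  have hmono := mono_res_map he g'
  have h4 : ∀ (E : EtOver U.obj), IsAffine E.obj.left.left →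
      ∀ s : F.val.presheaf.obj (op ((EtOver.postcomp j.hom he).obj E)),
        (∃ t, lin ((resModEt he).map g') E t = s) ↔ ∃ t, lin g E t = s := by
    intro E hE s
    have h5 : In (Set.range (Points.map j.hom)) ((EtOver.postcomp j.hom he).obj E) :=
      in_of_factor E.obj.hom rfl
    have h6 : LinearMap.range (lin g' ((EtOver.postcomp j.hom he).obj E)) = img he g E :=
      ((h2 _ hE).trans (h1 _ hE h5)).trans (famSub_postcomp hj he g E hE)
    have h7 : s ∈ LinearMap.range (lin g' ((EtOver.postcomp j.hom he).obj E)) ↔ s ∈ img he g E := by rw [h6]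
    exact h7
  obtain ⟨a, ha⟩ := exists_factor g ((resModEt he).map g') (fun E hE s => (h4 E hE _).1 ⟨s, rfl⟩)
  obtain ⟨b, hb⟩ := exists_factor ((resModEt he).map g') g (fun E hE s => (h4 E hE _).2 ⟨s, rfl⟩)
  refine ⟨G', g', hg', hqc', h3 hN', ⟨a, b, ?_, ?_⟩, ha⟩
  · rw [← cancel_mono ((resModEt he).map g'), Category.assoc, hb, ha, Category.id_comp]
  · rw [← cancel_mono g, Category.assoc, ha, hb, Category.id_comp]

end

end K606.ExtRes
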