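import Groth.Agent.AlgSp.K613.Cover
import Groth.Agent.AlgSp.K596.Pts
import Groth.Agent.AlgSp.K606.RepBySp

/-!
# Maps representable by algebraic spaces which are surjective, flat, locally finitely presented are
fppf locally surjective
-/

set_option autoImplicit false
universe u

open CategoryTheory CategoryTheory.Limits AlgebraicGeometry Opposite

namespace K606.FCov

open AlgSp K613.Cover

variable {S : Scheme.{u}}

/-- A surjective flat locally finitely presented map from an algebraic space to a scheme has a chart which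
is an fppf covering of the target. -/
theorem exists_fpC {F' : Sp S} (hF' : IsAlgSpace F') {T : Over S} (q : F' ⟶ (yon S).obj T)
    (hs : IsSurjectiveMor q) (hf : LocP @Flat q) (hp : LocP @LocallyOfFinitePresentation q) :
    ∃ (U : Over S) (p : (yon S).obj U ⟶ F') (c : U ⟶ T), RepWith @Etale p ∧ RepWith @Surjective p ∧
      p ≫ q = (yon S).map c ∧ FpC c := by
  obtain ⟨U, p, h₁, h₂⟩ := hF'.atlas
  obtain ⟨c, hc⟩ := (yon S).map_surjective (p ≫ q)
  have hid : RepWith @Etale (𝟙 ((yon S).obj T)) := repWith_id _ T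
  refine ⟨U, p, c, h₁, h₂, hc.symm, ⟨?_, ?_, ?_⟩⟩
  · exact hf p (𝟙 _) c h₁ hid (by rw [Category.comp_id, hc])
  · exact hp p (𝟙 _) c h₁ hid (by rw [Category.comp_id, hc])
  · rw [← repWith_yon_map_iff @Surjective c, K596.Pts.repWith_surjective_iff (representable_of_yon _), hc]
    have := K596.Pts.surjective_of_repWith h₂
    exact (funext fun x => Points.map_comp p q x : Points.map (p ≫ q) = _) ▸ hs.comp this

theorem exists_etC {F' : Sp S} (hF' : IsAlgSpace F') {T : Over S} (q : F' ⟶ (yon S).obj T)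
    (hs : IsSurjectiveMor q) (hf : IsEtaleMor q) :
    ∃ (U : Over S) (p : (yon S).obj U ⟶ F') (c : U ⟶ T), RepWith @Etale p ∧ RepWith @Surjective p ∧
      p ≫ q = (yon S).map c ∧ EtC c := by
  obtain ⟨U, p, h₁, h₂⟩ := hF'.atlas
  obtain ⟨c, hc⟩ := (yon S).map_surjective (p ≫ q)
  refine ⟨U, p, c, h₁, h₂, hc.symm, ⟨?_, ?_⟩⟩
  · rw [← repWith_yon_map_iff @Etale c, hc]
    exact hf p h₁
  · rw [← repWith_yon_map_iff @Surjective c, K596.Pts.repWith_surjective_iff (representable_of_yon _), hc]
    have := K596.Pts.surjective_of_repWith h₂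
    exact (funext fun x => Points.map_comp p q x : Points.map (p ≫ q) = _) ▸ hs.comp this

theorem fSurj_of_repBySpWith {F G : Sp S} {a : F ⟶ G}
    (ha : RepBySpWith (IsSurjectiveMor ⊓ LocP @Flat ⊓ LocP @LocallyOfFinitePresentation) a.hom) : FSurj a := by
  intro T g
  obtain ⟨hA, ⟨hs, hf⟩, hp⟩ := (repBySpWith_hom_iff _ a).1 ha g (pullback.fst a g) (pullback.snd a g)
    (IsPullback.of_hasPullback a g)
  obtain ⟨U, p, c, -, -, hpc, hc⟩ := exists_fpC hA _ hs hf hp
  refine ⟨U, c, p ≫ pullback.fst a g, hc, ?_⟩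
  rw [Category.assoc, pullback.condition, ← Category.assoc, hpc]

theorem eSurj_of_repBySpWith {F G : Sp S} {a : F ⟶ G}
    (ha : RepBySpWith (IsSurjectiveMor ⊓ IsEtaleMor) a.hom) : ESurj a := by
  intro T g
  obtain ⟨hA, hs, hf⟩ := (repBySpWith_hom_iff _ a).1 ha g (pullback.fst a g) (pullback.snd a g)
    (IsPullback.of_hasPullback a g)
  obtain ⟨U, p, c, -, -, hpc, hc⟩ := exists_etC hA _ hs hf
  refine ⟨U, c, p ≫ pullback.fst a g, hc, ?_⟩
  rw [Category.assoc, pullback.condition, ← Category.assoc, hpc]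

end K606.FCov
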