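import Groth.Agent.Sga3B.RepDescent5

/-!
# Fppf descent of representability, part 1: the quasi-affine case

A variant of `Groth.Agent.Sga3B.RepDescent` (étale covers) for flat covers locally of finite presentation.
`F : (Over S)ᵒᵖ ⥤ Type u` an fppf sheaf (`IsFppfSheaf`), `p : S' ⟶ S` flat surjective lfp, `A'` over `S'` representing the
restriction of `F` to `Over S'`, all of whose quasi-compact opens are quasi-affine.  Then `F` is representable.
-/

universe u

open CategoryTheory CategoryTheory.Limits AlgebraicGeometry Opposite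

namespace K606.FppfRep

open Groth.Agent.Sga3B.RepDescent

/-- The fppf sheaf condition for a presheaf on `Over S`, for small families. -/
def IsFppfSheaf {S : Scheme.{u}} (F : (Over S)ᵒᵖ ⥤ Type u) : Prop :=
  ∀ {T : Over S} {ι : Type u} (T' : ι → Over S) (f : ∀ i, T' i ⟶ T), (∀ i, Flat (f i).left) →
    (∀ i, LocallyOfFinitePresentation (f i).left) →
    (∀ t : T.left, ∃ (i : ι) (t' : (T' i).left), (f i).left t' = t) →
    ∀ x : ∀ i, F.obj (op (T' i)),
      (∀ (i j : ι) (R : Over S) (a : R ⟶ T' i) (b : R ⟶ T' j), a ≫ f i = b ≫ f j →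
        F.map a.op (x i) = F.map b.op (x j)) →
      ∃! y : F.obj (op T), ∀ i, F.map (f i).op y = x i

theorem IsFppfSheaf.isEtSheaf {S : Scheme.{u}} {F : (Over S)ᵒᵖ ⥤ Type u} (hF : IsFppfSheaf F) : IsEtSheaf F := by
  intro T ι T' f hf hT x hx
  exact hF T' f (fun i => have := hf i; inferInstance) (fun i => have := hf i; inferInstance) hT x hx

section single

variable {S : Scheme.{u}} {F : (Over S)ᵒᵖ ⥤ Type u} (hF : IsFppfSheaf F)

include hF in
theorem IsFppfSheaf.existsUnique {T T' : Over S} (f : T' ⟶ T) [Flat f.left] [LocallyOfFinitePresentation f.left]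
    [Surjective f.left] (x : F.obj (op T'))
    (hx : ∀ (R : Over S) (a b : R ⟶ T'), a ≫ f = b ≫ f → F.map a.op x = F.map b.op x) :
    ∃! y : F.obj (op T), F.map f.op y = x := by
  obtain ⟨y, hy, hy'⟩ := hF (T := T) (ι := PUnit.{u+1}) (fun _ => T') (fun _ => f) (fun _ => inferInstance)
    (fun _ => inferInstance)
    (fun t => ⟨PUnit.unit, f.left.surjective t⟩) (fun _ => x) (fun _ _ R a b h => hx R a b h)
  exact ⟨y, hy PUnit.unit, fun z hz => hy' z fun _ => hz⟩

include hF in
theorem IsFppfSheaf.injective {T T' : Over S} (f : T' ⟶ T) [Flat f.left] [LocallyOfFinitePresentation f.left]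
    [Surjective f.left] :
    Function.Injective (F.map f.op) := by
  intro y z h
  obtain ⟨w, hw, hw'⟩ := hF.existsUnique f (F.map f.op y) (fun R a b hab => by
    rw [← Functor.map_comp_apply, ← Functor.map_comp_apply, ← op_comp, ← op_comp, hab])
  rw [hw' y rfl, hw' z h.symm]

end single

section points

variable {S S' : Scheme.{u}} {p : S' ⟶ S} {F : (Over S)ᵒᵖ ⥤ Type u}
  {A' : Over S'} (r : ((Over.map p).op ⋙ F).RepresentableBy A')

instance (p : S' ⟶ S) (W : Over S) [Flat p] : Flat (πW p W).left :=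
  inferInstanceAs (Flat (pullback.snd p W.hom))

instance (p : S' ⟶ S) (W : Over S) [LocallyOfFinitePresentation p] : LocallyOfFinitePresentation (πW p W).left :=
  inferInstanceAs (LocallyOfFinitePresentation (pullback.snd p W.hom))

section iso

variable (W : Over S) (e : (Desc.toDD p).obj W ≅ ddOf r)

include r e in
theorem representableBy_aux [Flat p] [LocallyOfFinitePresentation p] [Surjective p]
    (hF : IsFppfSheaf F) : Nonempty (F.RepresentableBy W) := by
  obtain ⟨w, hw, -⟩ := hF.existsUnique (πW p W) (wuniv' r W e) (map_wuniv'_eq r W e)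
  have hjm : Mono (jhom r W e) := by
    have := jhom_jinv r W e
    exact (SplitMono.mk (jinv r W e) this).mono
  -- computation of the pulled back section
  have key : ∀ (R : Over S) (m : R ⟶ W) (x₀ : R.left ⟶ S') (h : x₀ ≫ p = R.hom) (n : R.left ⟶ pullback p W.hom)
      (hn1 : n ≫ pullback.fst p W.hom = x₀) (hn2 : n ≫ pullback.snd p W.hom = m.left)
      (h' : (n ≫ jhom r W e) ≫ A'.hom = x₀), F.map m.op w = ptEquiv r R x₀ h ⟨n ≫ jhom r W e, h'⟩ := by
    intro R m x₀ h n hn1 hn2 h'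
    subst hn1
    let n' : R ⟶ tW p W := Over.homMk n (by
      change n ≫ pullback.snd p W.hom ≫ W.hom = R.hom
      rw [← Category.assoc, hn2]; exact Over.w m)
    have e1 : m = n' ≫ πW p W := by
      ext
      change m.left = n ≫ pullback.snd p W.hom
      rw [hn2]
    rw [e1, op_comp, Functor.map_comp_apply, hw]
    exact map_wuniv' r W e R n' h h'
  refine ⟨⟨fun {T} => Equiv.ofBijective (fun m => F.map m.op w) ⟨?_, ?_⟩, ?_⟩⟩
  · intro m₁ m₂ h
    dsimp only at h
    have hc : ∀ m : T ⟶ W, pullback.fst p T.hom ≫ p = (pullback.snd p T.hom ≫ m.left) ≫ W.hom := by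
      intro m
      rw [Category.assoc, Over.w m, pullback.condition]
    have h' := congrArg (F.map (πW p T).op) h
    rw [← Functor.map_comp_apply, ← Functor.map_comp_apply, ← op_comp, ← op_comp] at h'
    have hfst : pullback.fst p T.hom ≫ p = (tW p T).hom := pullback.condition
    have hl : ∀ m : T ⟶ W, (pullback.lift _ _ (hc m) ≫ jhom r W e) ≫ A'.hom = pullback.fst p T.hom := by
      intro m
      rw [Category.assoc, jhom_hom, pullback.lift_fst]
    rw [key (tW p T) (πW p T ≫ m₁) (pullback.fst p T.hom) hfst (pullback.lift _ _ (hc m₁)) (pullback.lift_fst _ _ _)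
        (pullback.lift_snd _ _ _) (hl m₁),
      key (tW p T) (πW p T ≫ m₂) (pullback.fst p T.hom) hfst (pullback.lift _ _ (hc m₂)) (pullback.lift_fst _ _ _)
        (pullback.lift_snd _ _ _) (hl m₂)] at h'
    have h2 := congrArg Subtype.val ((ptEquiv r (tW p T) (pullback.fst p T.hom) hfst).injective h')
    rw [cancel_mono] at h2
    have h3 := congrArg (· ≫ pullback.snd p W.hom) h2
    rw [pullback.lift_snd, pullback.lift_snd] at h3
    ext
    exact (cancel_epi (pullback.snd p T.hom)).1 h3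
  · intro y
    have hfst : pullback.fst p T.hom ≫ p = (tW p T).hom := pullback.condition
    obtain ⟨v, hv⟩ := (ptEquiv r (tW p T) (pullback.fst p T.hom) hfst).surjective (F.map (πW p T).op y)
    have hdesc : ∀ {Z : Scheme.{u}} (a b : Z ⟶ pullback p T.hom), a ≫ pullback.snd p T.hom = b ≫ pullback.snd p T.hom →
        a ≫ v.1 ≫ jinv r W e ≫ pullback.snd p W.hom = b ≫ v.1 ≫ jinv r W e ≫ pullback.snd p W.hom := by
      intro Z a b hab
      have h1 : (a ≫ pullback.fst p T.hom) ≫ p = (b ≫ pullback.snd p T.hom) ≫ T.hom := by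
        rw [Category.assoc, pullback.condition, ← Category.assoc, hab]
      have h2 : (b ≫ pullback.fst p T.hom) ≫ p = (b ≫ pullback.snd p T.hom) ≫ T.hom := by
        rw [Category.assoc, pullback.condition, ← Category.assoc]
      let R : Over S := Over.mk ((b ≫ pullback.snd p T.hom) ≫ T.hom)
      let a' : R ⟶ tW p T := Over.homMk a (by
        change a ≫ pullback.snd p T.hom ≫ T.hom = (b ≫ pullback.snd p T.hom) ≫ T.hom
        rw [← Category.assoc, hab])
      let b' : R ⟶ tW p T := Over.homMk b (by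
        change b ≫ pullback.snd p T.hom ≫ T.hom = (b ≫ pullback.snd p T.hom) ≫ T.hom
        rw [← Category.assoc])
      have hab' : a' ≫ πW p T = b' ≫ πW p T := by ext; exact hab
      have hv1 : (a ≫ v.1) ≫ A'.hom = a ≫ pullback.fst p T.hom :=
        (Category.assoc _ _ _).trans (congrArg (a ≫ ·) v.2)
      have hv2 : (b ≫ v.1) ≫ A'.hom = b ≫ pullback.fst p T.hom :=
        (Category.assoc _ _ _).trans (congrArg (b ≫ ·) v.2)
      have ea : ptEquiv r R (a ≫ pullback.fst p T.hom) h1 ⟨a ≫ v.1, hv1⟩ =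
          F.map a'.op (ptEquiv r (tW p T) (pullback.fst p T.hom) hfst v) :=
        ptEquiv_naturality r (t := tW p T) (t' := R) a' _ hfst v _ h1 rfl ⟨a ≫ v.1, hv1⟩ rfl
      have eb : ptEquiv r R (b ≫ pullback.fst p T.hom) h2 ⟨b ≫ v.1, hv2⟩ =
          F.map b'.op (ptEquiv r (tW p T) (pullback.fst p T.hom) hfst v) :=
        ptEquiv_naturality r (t := tW p T) (t' := R) b' _ hfst v _ h2 rfl ⟨b ≫ v.1, hv2⟩ rfl
      have eab : ptEquiv r R (a ≫ pullback.fst p T.hom) h1 ⟨a ≫ v.1, hv1⟩ =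
          ptEquiv r R (b ≫ pullback.fst p T.hom) h2 ⟨b ≫ v.1, hv2⟩ := by
        rw [ea, eb, hv, ← Functor.map_comp_apply, ← Functor.map_comp_apply, ← op_comp, ← op_comp, hab']
      have htr := (tr_eq_iff r R _ _ h1 h2 (h1.trans h2.symm) _ _).2 eab
      have := tr_jinv r W e (a ≫ v.1) (b ≫ v.1) _ _ hv1 hv2 (h1.trans h2.symm) htr
      simpa only [Category.assoc] using this
    let m : T.left ⟶ W.left := EffectiveEpi.desc (pullback.snd p T.hom)
      (v.1 ≫ jinv r W e ≫ pullback.snd p W.hom) hdesc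
    have hm : pullback.snd p T.hom ≫ m = v.1 ≫ jinv r W e ≫ pullback.snd p W.hom :=
      EffectiveEpi.fac _ _ _
    have hvA : v.1 ≫ A'.hom = pullback.fst p T.hom := v.2
    have hmW : m ≫ W.hom = T.hom := by
      rw [← cancel_epi (pullback.snd p T.hom), ← Category.assoc, hm, Category.assoc, Category.assoc,
        ← pullback.condition, ← Category.assoc (jinv r W e), jinv_fst, ← Category.assoc, hvA, pullback.condition]
    refine ⟨Over.homMk m hmW, ?_⟩
    apply hF.injective (πW p T)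
    dsimp only
    rw [← Functor.map_comp_apply, ← op_comp]
    have hvA' : ((v.1 ≫ jinv r W e) ≫ jhom r W e) ≫ A'.hom = pullback.fst p T.hom := by
      rw [Category.assoc v.1, jinv_jhom, Category.comp_id, hvA]
    rw [key (tW p T) (πW p T ≫ Over.homMk m hmW) (pullback.fst p T.hom) hfst (v.1 ≫ jinv r W e)
      (by rw [Category.assoc, jinv_fst, hvA]) (by
        change _ = pullback.snd p T.hom ≫ m
        rw [hm, Category.assoc]) hvA', ← hv]
    congr 1
    apply Subtype.ext
    dsimp only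
    rw [Category.assoc, jinv_jhom, Category.comp_id]
  · intro X X' f g
    exact (by simp : F.map (f ≫ g).op w = F.map f.op (F.map g.op w))

end iso

/-- Fppf descent of representability, quasi-affine case. -/
theorem exists_representableBy_of_isQuasiAffine [Flat p] [LocallyOfFinitePresentation p] [Surjective p]
    [QuasiCompact p] (hF : IsFppfSheaf F)
    (r : ((Over.map p).op ⋙ F).RepresentableBy A') (hA : Mor2.IsQuasiAffine A'.hom) :
    ∃ W : Over S, Nonempty (F.RepresentableBy W) := by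
  obtain ⟨W, ⟨e⟩⟩ := Groth.Agent.S1134.result p (ddOf r) hA
  exact ⟨W, representableBy_aux r W e hF⟩

end points

variable {S S' : Scheme.{u}} {p : S' ⟶ S} {F : (Over S)ᵒᵖ ⥤ Type u}
  {A' : Over S'} (r : ((Over.map p).op ⋙ F).RepresentableBy A')

theorem isFppfSheaf_FU (hF : IsFppfSheaf F) (U : A'.left.Opens) : IsFppfSheaf (FU r U) := by
  intro T ι T' f hf hf' hT x hx
  obtain ⟨y, hy, hy'⟩ := hF T' f hf hf' hT (fun i => (x i).1) (fun i j R a b hab =>
    congrArg Subtype.val (hx i j R a b hab))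
  refine ⟨⟨y, ?_⟩, fun i => Subtype.ext (hy i), fun z hz => Subtype.ext (hy' z.1 fun i => congrArg Subtype.val (hz i))⟩
  rintro R g z hz _ ⟨ρ, rfl⟩
  obtain ⟨i, t', ht'⟩ := hT (g.left ρ)
  obtain ⟨ξ, hξ1, hξ2⟩ := Scheme.Pullback.exists_preimage_pullback (f := g.left) (g := (f i).left) ρ t' ht'.symm
  let R' : Over S := Over.mk (pullback.fst g.left (f i).left ≫ R.hom)
  let a : R' ⟶ R := Over.homMk (pullback.fst g.left (f i).left)
  let b : R' ⟶ T' i := Over.homMk (pullback.snd g.left (f i).left) (by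
    change pullback.snd g.left (f i).left ≫ (T' i).hom = pullback.fst g.left (f i).left ≫ R.hom
    rw [← Over.w g, ← Over.w (f i), ← Category.assoc, ← Category.assoc, pullback.condition])
  have hab : a ≫ g = b ≫ f i := by ext; exact pullback.condition
  have hz' : (a.left ≫ z) ≫ p = R'.hom := by rw [Category.assoc, hz]; rfl
  have h1 : pt r R' (a.left ≫ z) hz' (F.map b.op (x i).1) = a.left ≫ pt r R z hz (F.map g.op y) := by
    rw [← pt_map r a z hz (F.map g.op y) _ hz' rfl, ← hy i, ← Functor.map_comp_apply, ← Functor.map_comp_apply,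
      ← op_comp, ← op_comp, hab]
  have h2 := (x i).2 R' b (a.left ≫ z) hz' ⟨ξ, rfl⟩
  rw [h1] at h2
  have h3 : (a.left ≫ pt r R z hz (F.map g.op y)) ξ = pt r R z hz (F.map g.op y) ρ := by
    rw [Scheme.Hom.comp_apply]
    congr 1
  rw [h3] at h2
  exact h2

section saturation

instance [Flat p] : Flat (tA r) := by
  rw [← σA_fst]
  infer_instance

instance [LocallyOfFinitePresentation p] : LocallyOfFinitePresentation (tA r) := by
  rw [← σA_fst]
  infer_instance

/-- The saturation of an open. -/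
noncomputable def sat [Flat p] [LocallyOfFinitePresentation p] (U : A'.left.Opens) : A'.left.Opens :=
  ⟨tA r '' (pullback.fst (A'.hom ≫ p) p ⁻¹' (U : Set A'.left)),
    (tA r).isOpenMap _ ((pullback.fst (A'.hom ≫ p) p).continuous.isOpen_preimage _ U.2)⟩

theorem le_sat [Flat p] [LocallyOfFinitePresentation p] (U : A'.left.Opens) : U ≤ sat r U := by
  intro a ha
  have h1 : pullback.lift (𝟙 A'.left) A'.hom (by simp) ≫ tA r = 𝟙 _ := by
    rw [lift_tA r (𝟙 A'.left) A'.hom A'.hom rfl (Category.id_comp _)]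
    rw [tr_self]
  refine ⟨(pullback.lift (𝟙 A'.left) A'.hom (by simp) : A'.left ⟶ RA p A') a, ?_, ?_⟩
  · rw [Set.mem_preimage, ← Scheme.Hom.comp_apply, pullback.lift_fst]
    exact ha
  · rw [← Scheme.Hom.comp_apply, h1]
    rfl

theorem isCompact_sat [Flat p] [LocallyOfFinitePresentation p] [QuasiCompact p] (U : A'.left.Opens) (hU : IsCompact (U : Set A'.left)) :
    IsCompact (sat r U : Set A'.left) :=
  ((pullback.fst (A'.hom ≫ p) p).isCompact_preimage hU).image (tA r).continuous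

theorem isStable_sat [Flat p] [LocallyOfFinitePresentation p] (U : A'.left.Opens) : IsStable r (sat r U) := by
  rintro T x₀ x₁ h v hv _ ⟨τ, rfl⟩
  obtain ⟨ρ, hρ, hρ'⟩ := hv ⟨τ, rfl⟩
  obtain ⟨ξ, hξ1, hξ2⟩ := Scheme.Pullback.exists_preimage_pullback (f := v.1) (g := tA r) τ ρ hρ'.symm
  let s' := pullback.fst (A'.hom ≫ p) p
  let Ξ := pullback v.1 (tA r)
  let π₁ : Ξ ⟶ T := pullback.fst v.1 (tA r)
  let π₂ : Ξ ⟶ RA p A' := pullback.snd v.1 (tA r)
  -- the source point
  let a : Ξ ⟶ A'.left := π₂ ≫ s'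
  have hc : π₁ ≫ v.1 = π₂ ≫ tA r := pullback.condition
  have e1 : (π₂ ≫ s') ≫ A'.hom ≫ p = (π₁ ≫ x₁) ≫ p := by
    have h1 : (π₁ ≫ v.1) ≫ A'.hom = π₁ ≫ x₀ := (Category.assoc _ _ _).trans (congrArg (π₁ ≫ ·) v.2)
    rw [Category.assoc, show s' ≫ A'.hom ≫ p = pullback.snd (A'.hom ≫ p) p ≫ p from pullback.condition, ← tA_hom r,
      Category.assoc π₁, ← h, ← Category.assoc π₁, ← h1, hc]
    simp only [Category.assoc]
  have e2 : (a ≫ A'.hom) ≫ p = (π₁ ≫ x₁) ≫ p := by rw [Category.assoc]; exact e1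
  have e3 : (π₁ ≫ x₀) ≫ p = (π₁ ≫ x₁) ≫ p := by rw [Category.assoc, Category.assoc, h]
  have hv2 : (π₁ ≫ v.1) ≫ A'.hom = π₁ ≫ x₀ := (Category.assoc _ _ _).trans (congrArg (π₁ ≫ ·) v.2)
  have e4 : (a ≫ A'.hom) ≫ p = (π₁ ≫ x₀) ≫ p := e2.trans e3.symm
  -- `π₁ ≫ v` is the transport of `a`
  have e5 : tr r (a ≫ A'.hom) (π₁ ≫ x₀) e4 ⟨a, rfl⟩ = ⟨π₁ ≫ v.1, hv2⟩ := by
    apply Subtype.ext
    have h1 := lift_tA r a (a ≫ A'.hom) (π₁ ≫ x₀) e4 rfl (by rw [← Category.assoc]; exact e4)
    rw [← h1]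
    change _ = π₁ ≫ v.1
    rw [hc]
    congr 1
    apply pullback.hom_ext
    · rw [pullback.lift_fst]
    · rw [pullback.lift_snd, ← hv2, hc, Category.assoc, tA_hom]
  have e6 : (tr r (π₁ ≫ x₀) (π₁ ≫ x₁) e3 ⟨π₁ ≫ v.1, hv2⟩).1 = π₁ ≫ (tr r x₀ x₁ h v).1 :=
    tr_natural r π₁ x₀ x₁ h e3 v _ rfl
  have e7 : (pullback.lift a (π₁ ≫ x₁) e1 : Ξ ⟶ RA p A') ≫ tA r = π₁ ≫ (tr r x₀ x₁ h v).1 := by
    rw [lift_tA r a (a ≫ A'.hom) (π₁ ≫ x₁) e2 rfl e1, ← e6, ← e5, tr_comp]
  refine ⟨(pullback.lift a (π₁ ≫ x₁) e1 : Ξ ⟶ RA p A') ξ, ?_, ?_⟩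
  · rw [Set.mem_preimage, ← Scheme.Hom.comp_apply, pullback.lift_fst]
    change (π₂ ≫ s') ξ ∈ _
    rw [Scheme.Hom.comp_apply]
    change s' (pullback.snd v.1 (tA r) ξ) ∈ _
    rw [hξ2]
    exact hρ
  · rw [← Scheme.Hom.comp_apply, e7, Scheme.Hom.comp_apply]
    congr 1

end saturation

/-- The open of `T` where a section lies in `U`. -/
noncomputable def opU [Flat p] [LocallyOfFinitePresentation p] (U : A'.left.Opens) (T : Over S) (y : F.obj (op T)) : T.left.Opens :=
  ⟨pullback.snd p T.hom '' (ptv r T y ⁻¹' (U : Set A'.left)),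
    (pullback.snd p T.hom).isOpenMap _ ((ptv r T y).continuous.isOpen_preimage _ U.2)⟩

theorem inU_iff [Flat p] [LocallyOfFinitePresentation p] [Surjective p] {U : A'.left.Opens} (hU : IsStable r U) (T : Over S) (y : F.obj (op T))
    (R : Over S) (g : R ⟶ T) : InU r U R (F.map g.op y) ↔ Set.range g.left ⊆ (opU r U T y : Set T.left) := by
  constructor
  · rintro h _ ⟨ρ, rfl⟩
    obtain ⟨ρ', hρ'⟩ := (pullback.snd p R.hom).surjective ρ
    have h1 := h (tW p R) (πW p R) (pullback.fst p R.hom) pullback.condition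
    rw [← Functor.map_comp_apply, ← op_comp] at h1
    have hc : pullback.fst p R.hom ≫ p = (πW p R ≫ g).left ≫ T.hom := by
      rw [Over.w (πW p R ≫ g)]
      exact pullback.condition
    rw [pt_eq_ptv r T y (tW p R) (πW p R ≫ g) (pullback.fst p R.hom) pullback.condition hc] at h1
    have h2 := h1 ⟨ρ', rfl⟩
    rw [Scheme.Hom.comp_apply] at h2
    refine ⟨_, h2, ?_⟩
    rw [← Scheme.Hom.comp_apply, pullback.lift_snd]
    change (pullback.snd p R.hom ≫ g.left) ρ' = _
    rw [Scheme.Hom.comp_apply, hρ']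
  · intro h R' g' x hx
    rintro _ ⟨ρ, rfl⟩
    rw [← Functor.map_comp_apply, ← op_comp]
    have hc : x ≫ p = (g' ≫ g).left ≫ T.hom := by rw [Over.w (g' ≫ g), hx]
    rw [pt_eq_ptv r T y R' (g' ≫ g) x hx hc, Scheme.Hom.comp_apply]
    obtain ⟨τ', h1, h2⟩ := h ⟨g'.left ρ, rfl⟩
    refine ptv_mem_iff r hU T y τ' _ ?_ h1
    rw [h2, ← Scheme.Hom.comp_apply (pullback.lift x (g' ≫ g).left hc), pullback.lift_snd]
    rfl

include r in
/-- The local atlas. -/
theorem exists_atlas [IsAffine S'] [Flat p] [LocallyOfFinitePresentation p] [Surjective p] [QuasiCompact p] (hF : IsFppfSheaf F)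
    (hA : ∀ U : A'.left.Opens, IsCompact (U : Set A'.left) → (U : Scheme.{u}).IsQuasiAffine) :
    Nonempty (Atlas F) := by
  let ι : Type u := {U : A'.left.Opens // IsCompact (U : Set A'.left)}
  have h1 : ∀ i : ι, ∃ W : Over S, Nonempty ((FU r (sat r i.1)).RepresentableBy W) := by
    intro i
    have := hA (sat r i.1) (isCompact_sat r i.1 i.2)
    exact exists_representableBy_of_isQuasiAffine (isFppfSheaf_FU r hF _) (repFU r _ (isStable_sat r i.1))
      (isQuasiAffine_of_isAffine ((sat r i.1).ι ≫ A'.hom))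
  choose W hW using h1
  let ρ : ∀ i : ι, (FU r (sat r i.1)).RepresentableBy (W i) := fun i => (hW i).some
  let w' : ∀ i : ι, (FU r (sat r i.1)).obj (op (W i)) := fun i => (ρ i).homEquiv (𝟙 (W i))
  have hw : ∀ (i : ι) (R : Over S) (m : R ⟶ W i), ((ρ i).homEquiv m).1 = F.map m.op (w' i).1 := by
    intro i R m
    have := (ρ i).homEquiv_eq m
    rw [this]
    rfl
  refine ⟨{ ι := ι, W := W, w := fun i => (w' i).1, injective := ?_, opens := fun T y i => opU r (sat r i.1) T y,
            exists_iff := ?_, cover := ?_ }⟩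
  · intro i R m₁ m₂ h
    dsimp only at h
    rw [← hw, ← hw] at h
    exact (ρ i).homEquiv.injective (Subtype.ext h)
  · intro T y i R g
    rw [← inU_iff r (isStable_sat r i.1) T y R g]
    constructor
    · rintro ⟨m, hm⟩
      rw [← hm, ← hw]
      exact ((ρ i).homEquiv m).2
    · intro h
      obtain ⟨m, hm⟩ := (ρ i).homEquiv.surjective ⟨F.map g.op y, h⟩
      refine ⟨m, ?_⟩
      rw [← hw, hm]
  · intro T y τ
    obtain ⟨τ', hτ'⟩ := (pullback.snd p T.hom).surjective τ
    obtain ⟨V, hV, hmem, -⟩ := exists_isAffineOpen_mem_and_subset (x := ptv r T y τ') (U := ⊤) trivial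
    exact ⟨⟨V, hV.isCompact⟩, τ', le_sat r V hmem, hτ'⟩

theorem isFppfSheaf_restrict {S V : Scheme.{u}} {F : (Over S)ᵒᵖ ⥤ Type u} (hF : IsFppfSheaf F) (v : V ⟶ S) :
    IsFppfSheaf ((Over.map v).op ⋙ F) := by
  intro T ι T' f hf hf' hT x hx
  obtain ⟨y, hy, hy'⟩ := hF (T := (Over.map v).obj T) (fun i => (Over.map v).obj (T' i))
    (fun i => (Over.map v).map (f i)) hf hf' hT x (by
      intro i j R a b hab
      have h1 : a.left ≫ (f i).left = b.left ≫ (f j).left := congrArg (·.left) hab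
      have hb : b.left ≫ (T' j).hom = a.left ≫ (T' i).hom := by
        rw [← Over.w (f i), ← Over.w (f j), ← Category.assoc, ← Category.assoc, h1]
      let R' : Over V := Over.mk (a.left ≫ (T' i).hom)
      let a' : R' ⟶ T' i := Over.homMk a.left rfl
      let b' : R' ⟶ T' j := Over.homMk b.left hb
      have h2 : a' ≫ f i = b' ≫ f j := by ext; exact h1
      have h3 := hx i j R' a' b' h2
      have ha : (a.left ≫ (T' i).hom) ≫ v = R.hom := by
        rw [Category.assoc]; exact Over.w a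
      let c : R ⟶ (Over.map v).obj R' := Over.homMk (𝟙 _) (by
        change 𝟙 _ ≫ (a.left ≫ (T' i).hom) ≫ v = R.hom
        rw [Category.id_comp, ha])
      have h4 := congrArg (F.map c.op) h3
      change F.map c.op (F.map _ (x i)) = F.map c.op (F.map _ (x j)) at h4
      rw [← Functor.map_comp_apply, ← Functor.map_comp_apply] at h4
      refine Eq.trans ?_ (h4.trans ?_)
      · congr 2
      · congr 2)
  exact ⟨y, hy, hy'⟩

/-- **Fppf descent of representability.** -/
theorem exists_representableBy_of_fppf {S : Scheme.{u}} {F : (Over S)ᵒᵖ ⥤ Type u} (hF : IsFppfSheaf F)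
    (h : ∀ s : S, ∃ (V : Scheme.{u}) (v : V ⟶ S), Flat v ∧ LocallyOfFinitePresentation v ∧ s ∈ Set.range v ∧
      ∃ (A' : Over V), Nonempty (((Over.map v).op ⋙ F).RepresentableBy A') ∧
      ∀ U : A'.left.Opens, IsCompact (U : Set A'.left) → (U : Scheme.{u}).IsQuasiAffine) :
    ∃ A : Over S, Nonempty (F.RepresentableBy A) := by
  have key : ∀ s : S, ∃ O : S.Opens, s ∈ O ∧ Nonempty (Atlas ((Over.map O.ι).op ⋙ F)) := by
    intro s
    obtain ⟨V, v, hv, hv', ⟨b, rfl⟩, A', ⟨r⟩, hA⟩ := h s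
    obtain ⟨V₀, hV₀, hsV₀, -⟩ := exists_isAffineOpen_mem_and_subset (x := v b) (U := ⊤) trivial
    obtain ⟨B, hB, hbB, hBV⟩ := exists_isAffineOpen_mem_and_subset (x := b) (U := v ⁻¹ᵁ V₀) hsV₀
    let O : S.Opens := ⟨v '' (B : Set V), v.isOpenMap _ B.2⟩
    have hO : Set.range (B.ι ≫ v) ⊆ (O : Set S) := by
      rintro _ ⟨x, rfl⟩
      rw [Scheme.Hom.comp_apply]
      exact ⟨x.1, x.2, rfl⟩
    let q : (B : Scheme.{u}) ⟶ O := liftU O (B.ι ≫ v) hO
    have hq : q ≫ O.ι = B.ι ≫ v := liftU_ι _ _ _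
    have hOV : O ≤ V₀ := by
      rintro _ ⟨x, hx, rfl⟩
      exact hBV hx
    have : IsAffine (B : Scheme.{u}) := hB
    have : IsAffine (V₀ : Scheme.{u}) := hV₀
    have hsep : (O : Scheme.{u}).IsSeparated := by
      have h1 : IsSeparated (S.homOfLE hOV ≫ terminal.from _) := inferInstance
      have h2 : S.homOfLE hOV ≫ terminal.from _ = terminal.from _ := by ext
      rw [h2] at h1
      exact ⟨h1⟩
    have hsq : IsPullback q (𝟙 _) O.ι (B.ι ≫ v) := IsPullback.of_vert_isIso_mono ⟨by simp [hq]⟩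
    have hqf : Flat q := by
      have h1 : Flat (B.ι ≫ v) := inferInstance
      exact MorphismProperty.of_isPullback hsq.flip h1
    have hqp : LocallyOfFinitePresentation q := by
      have h1 : LocallyOfFinitePresentation (B.ι ≫ v) := inferInstance
      exact MorphismProperty.of_isPullback hsq.flip h1
    have hqs : Surjective q := ⟨by
      rintro ⟨_, x, hx, rfl⟩
      let x' : (B : Scheme.{u}) := ⟨x, hx⟩
      refine ⟨x', ?_⟩
      apply O.ι.isOpenEmbedding.injective
      have h1 : (q ≫ O.ι) x' = (B.ι ≫ v) x' := by rw [hq]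
      exact h1⟩
    have hqc : QuasiCompact q := by
      have h1 : QuasiCompact (q ≫ terminal.from _) := by
        have h2 : q ≫ terminal.from _ = terminal.from _ := by ext
        rw [h2]
        infer_instance
      exact QuasiCompact.of_comp q (terminal.from _)
    refine ⟨O, ⟨b, hbB, rfl⟩, ?_⟩
    exact exists_atlas (repRestrict v B.ι q O.ι hq.symm r) (isFppfSheaf_restrict hF O.ι)
      (isQuasiAffine_of_image (pullback.fst A'.hom B.ι) hA)
  choose O hO a using key
  exact exists_representableBy_of_atlas (Atlas.glue O (fun s => ⟨s, hO s⟩) (fun s => (a s).some)) hF.isEtSheaf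

end K606.FppfRep
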