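import Groth.Agent.AlgSp.K606.FppfRep
import Groth.Agent.AlgSp.K594.Cover
import Groth.Agent.Desc.LqfQAff

/-!
# Fppf descent of representability, part 2: sheaves with values in a larger universe, sheaves over a scheme
-/

set_option autoImplicit false
universe w u

open CategoryTheory CategoryTheory.Limits AlgebraicGeometry Opposite

namespace K606.FppfRepSp

open K606.FppfRep Groth.Agent.Sga3B.RepDescent

variable {S : Scheme.{u}}

/-- The fppf sheaf condition for small families, values in any universe. -/
def IsFppfSheafW (F : (Over S)ᵒᵖ ⥤ Type w) : Prop :=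
  ∀ {T : Over S} {ι : Type u} (T' : ι → Over S) (f : ∀ i, T' i ⟶ T), (∀ i, Flat (f i).left) →
    (∀ i, LocallyOfFinitePresentation (f i).left) →
    (∀ t : T.left, ∃ (i : ι) (t' : (T' i).left), (f i).left t' = t) →
    ∀ x : ∀ i, F.obj (op (T' i)),
      (∀ (i j : ι) (R : Over S) (a : R ⟶ T' i) (b : R ⟶ T' j), a ≫ f i = b ≫ f j →
        F.map a.op (x i) = F.map b.op (x j)) →
      ∃! y : F.obj (op T), ∀ i, F.map (f i).op y = x i

/-- The shrinking of a presheaf with small values. -/
noncomputable def shr (F : (Over S)ᵒᵖ ⥤ Type w) [∀ X, Small.{u} (F.obj X)] : (Over S)ᵒᵖ ⥤ Type u where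
  obj X := Shrink.{u} (F.obj X)
  map f := ↾fun x => equivShrink _ (F.map f ((equivShrink _).symm x))
  map_id X := by
    refine ConcreteCategory.hom_ext _ _ fun x => ?_
    change equivShrink _ (F.map (𝟙 X) ((equivShrink _).symm x)) = x
    rw [Functor.map_id_apply, Equiv.apply_symm_apply]
  map_comp f g := by
    refine ConcreteCategory.hom_ext _ _ fun x => ?_
    change equivShrink _ (F.map (f ≫ g) ((equivShrink _).symm x)) =
      equivShrink _ (F.map g ((equivShrink _).symm (equivShrink _ (F.map f ((equivShrink _).symm x)))))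
    rw [Functor.map_comp_apply, Equiv.symm_apply_apply]

section shr

variable (F : (Over S)ᵒᵖ ⥤ Type w) [∀ X, Small.{u} (F.obj X)]

/-- the bijection between the values -/
noncomputable def eS (X : (Over S)ᵒᵖ) : F.obj X ≃ (shr F).obj X := equivShrink (F.obj X)

theorem shr_map {X Y : (Over S)ᵒᵖ} (f : X ⟶ Y) (x : (shr F).obj X) :
    (shr F).map f x = eS F Y (F.map f ((eS F X).symm x)) := rfl

theorem shr_map' {X Y : (Over S)ᵒᵖ} (f : X ⟶ Y) (x : F.obj X) :
    (shr F).map f (eS F X x) = eS F Y (F.map f x) := by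
  rw [shr_map, Equiv.symm_apply_apply]

theorem isFppfSheaf_shr (hF : IsFppfSheafW F) : IsFppfSheaf (shr F) := by
  intro T ι T' f h1 h2 h3 x hx
  obtain ⟨y, hy, hy'⟩ := hF T' f h1 h2 h3 (fun i => (eS F _).symm (x i)) (fun i j R a b hab => by
    have := hx i j R a b hab
    rw [shr_map, shr_map] at this
    exact (eS F _).injective this)
  refine ⟨eS F _ y, fun i => ?_, fun z hz => ?_⟩
  · rw [shr_map', hy i, Equiv.apply_symm_apply]
  · rw [← hy' ((eS F _).symm z) fun i => ?_, Equiv.apply_symm_apply]
    rw [← hz i, shr_map, Equiv.symm_apply_apply]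

/-- representability is not affected by shrinking -/
noncomputable def repShr {V : Scheme.{u}} (v : V ⟶ S) {A : Over V} (r : ((Over.map v).op ⋙ F).RepresentableBy A) :
    ((Over.map v).op ⋙ shr F).RepresentableBy A where
  homEquiv {X} := r.homEquiv.trans (eS F (op ((Over.map v).obj X)))
  homEquiv_comp f g := by
    change eS F _ (r.homEquiv (f ≫ g)) = (shr F).map ((Over.map v).map f).op (eS F _ (r.homEquiv g))
    rw [r.homEquiv_comp, shr_map']
    rfl

/-- representability is not affected by shrinking -/
noncomputable def repOfShr {A : Over S} (r : (shr F).RepresentableBy A) : F.RepresentableBy A where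
  homEquiv {X} := r.homEquiv.trans (eS F (op X)).symm
  homEquiv_comp f g := by
    change (eS F _).symm (r.homEquiv (f ≫ g)) = F.map _ ((eS F _).symm (r.homEquiv g))
    rw [r.homEquiv_comp, shr_map, Equiv.symm_apply_apply]

end shr

/-- Sections of a sheaf which is representable over the members of an fppf cover form small sets. -/
theorem small_of_local {F : (Over S)ᵒᵖ ⥤ Type w} (hF : IsFppfSheafW F)
    (h : ∀ s : S, ∃ (V : Scheme.{u}) (v : V ⟶ S), Flat v ∧ LocallyOfFinitePresentation v ∧ s ∈ Set.range v ∧
      ∃ (A' : Over V), Nonempty (((Over.map v).op ⋙ F).RepresentableBy A')) (T : (Over S)ᵒᵖ) :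
    Small.{u} (F.obj T) := by
  choose V v hv hv' hs A' hA using h
  obtain ⟨T, rfl⟩ : ∃ T', T = op T' := ⟨T.unop, rfl⟩
  -- the cover of `T`
  let W : S → Over S := fun s => (Over.map (v s)).obj (Over.mk (pullback.snd T.hom (v s)))
  let g : ∀ s, W s ⟶ T := fun s => Over.homMk (pullback.fst T.hom (v s)) pullback.condition
  have hW : ∀ s, Small.{u} (F.obj (op (W s))) := fun s => by
    let e := (hA s).some.homEquiv (X := Over.mk (pullback.snd T.hom (v s)))
    exact small_map e.symm
  have hinj : Function.Injective (fun (x : F.obj (op T)) (s : S) => F.map (g s).op x) := by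
    intro x y hxy
    obtain ⟨z, hz, hz'⟩ := hF (T := T) (ι := ULift.{u} S) (fun s => W s.down) (fun s => g s.down)
      (fun s => by
        have := hv s.down
        change Flat (pullback.fst T.hom (v s.down))
        infer_instance)
      (fun s => by
        have := hv' s.down
        change LocallyOfFinitePresentation (pullback.fst T.hom (v s.down))
        infer_instance)
      (fun t => by
        obtain ⟨b, hb⟩ := hs (T.hom t)
        obtain ⟨τ, hτ1, hτ2⟩ := Scheme.Pullback.exists_preimage_pullback (f := T.hom) (g := v (T.hom t)) t b hb.symm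
        exact ⟨⟨T.hom t⟩, τ, hτ1⟩)
      (fun s => F.map (g s.down).op y) (fun i j R a b hab => by
        rw [← Functor.map_comp_apply, ← Functor.map_comp_apply, ← op_comp, ← op_comp, hab])
    rw [hz' x fun s => congrFun hxy s.down, hz' y fun s => rfl]
  exact small_of_injective hinj

/-- **Fppf descent of representability**, values in any universe. -/
theorem exists_representableBy_of_fppf {F : (Over S)ᵒᵖ ⥤ Type w} (hF : IsFppfSheafW F)
    (h : ∀ s : S, ∃ (V : Scheme.{u}) (v : V ⟶ S), Flat v ∧ LocallyOfFinitePresentation v ∧ s ∈ Set.range v ∧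
      ∃ (A' : Over V), Nonempty (((Over.map v).op ⋙ F).RepresentableBy A') ∧
      ∀ U : A'.left.Opens, IsCompact (U : Set A'.left) → (U : Scheme.{u}).IsQuasiAffine) :
    ∃ A : Over S, Nonempty (F.RepresentableBy A) := by
  have hsm : ∀ T, Small.{u} (F.obj T) := small_of_local hF fun s => by
    obtain ⟨V, v, h1, h2, h3, A', h4, -⟩ := h s
    exact ⟨V, v, h1, h2, h3, A', h4⟩
  obtain ⟨A, ⟨r⟩⟩ := FppfRep.exists_representableBy_of_fppf (isFppfSheaf_shr F hF) fun s => by
    obtain ⟨V, v, h1, h2, h3, A', ⟨r⟩, h5⟩ := h s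
    exact ⟨V, v, h1, h2, h3, A', ⟨repShr F v r⟩, h5⟩
  exact ⟨A, ⟨repOfShr F r⟩⟩

end K606.FppfRepSp
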