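import Groth.Agent.AlgSp.K600.LimAff
import Groth.Agent.AlgSp.K610.Sub
import Groth.Agent.AlgSp.K610.Factor
import Groth.Agent.AlgSp.K610.OpenImm
import Groth.Agent.AlgSp.K596.QC2

/-!
# Quasi-compact open subspaces of a limit of algebraic spaces come from a finite level
-/

set_option autoImplicit false
universe u

open CategoryTheory CategoryTheory.Limits AlgebraicGeometry Opposite

namespace K606.OpenLim

open AlgSp K610.Base K610.Factor

variable {S : Scheme.{u}}

/-- Open subspaces with matching sets of points form a pullback square. -/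
theorem exists_isPullback_of_range {U V X Y : Sp S} {j : U ⟶ X} {j' : V ⟶ Y} (hj : RepWith @IsOpenImmersion j)
    (hj' : RepWith @IsOpenImmersion j') (f : X ⟶ Y)
    (h : Set.range (Points.map j) = Points.map f ⁻¹' Set.range (Points.map j')) :
    ∃ q : U ⟶ V, IsPullback j q f j' := by
  have hm := mono_of_isOpenImmersion hj
  have hm' := mono_of_isOpenImmersion hj'
  obtain ⟨q, hq⟩ := (factors_open_iff hj' (j ≫ f)).2 (by
    rintro _ ⟨x, rfl⟩
    rw [Points.map_comp]
    have : Points.map j x ∈ Set.range (Points.map j) := ⟨x, rfl⟩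
    rw [h] at this
    exact this)
  refine ⟨q, K613.Basic.isPullback_of_yon hq.symm fun T y z hyz => ?_⟩
  obtain ⟨y', hy'⟩ := (factors_open_iff hj y).2 (by
    rintro _ ⟨x, rfl⟩
    rw [h]
    refine ⟨Points.map z x, ?_⟩
    rw [← Points.map_comp, ← hyz, Points.map_comp])
  refine ⟨y', ⟨hy', ?_⟩, fun y'' h'' => ?_⟩
  · rw [← cancel_mono j', Category.assoc, hq, ← Category.assoc, hy', hyz]
  · rw [← cancel_mono j, h''.1, hy']

theorem result (S : Scheme.{u}) [QuasiSeparatedSpace ↥S] {I : Type u} [SmallCategory I] [IsCofiltered I]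
    (D : I ⥤ AlgSp.Sp S) (hD : ∀ i, AlgSp.IsAlgSpace (D.obj i))
    (hDa : ∀ (i j : I) (φ : i ⟶ j), AlgSp.IsAffineMor (D.map φ))
    (hqc : ∀ i, AlgSp.IsQuasiCompactSp (D.obj i)) (hqs : ∀ i, AlgSp.IsQuasiSeparatedSp (D.obj i))
    (c : Cone D) (hc : IsLimit c)
    (U : AlgSp.Sp S) (j : U ⟶ c.pt) (hj : AlgSp.RepWith @IsOpenImmersion j) (hU : AlgSp.IsQuasiCompactSp U) :
    ∃ (i : I) (Ui : AlgSp.Sp S) (ji : Ui ⟶ D.obj i) (q : U ⟶ Ui),
      AlgSp.RepWith @IsOpenImmersion ji ∧ AlgSp.IsQuasiCompactSp Ui ∧ IsPullback j q (c.π.app i) ji := by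
  obtain ⟨i⟩ := IsCofiltered.nonempty (C := I)
  obtain ⟨U₀, p, hU₀, hp, hp'⟩ := K600.LimAff.exists_affine_chart (hqc i)
  obtain ⟨s, V, a, b, hs, hV, sq⟩ := K600.LimAff.exists_sys_of_affine hDa hc hU₀ p
  have hpqc : RepWith @QuasiCompact p := by
    have h1 : CompactSpace U₀.left := inferInstance
    exact K596.QC.repWith_of_isQuasiCompactMor hp.1 (K596.QC2.isQuasiCompactMor_of_qc_of_qs
      (IsAlgSpace.yon_obj U₀) (hD i) p (K596.QC.isQuasiCompactSp_yon U₀) (hqs i))
  have haqc : RepWith @QuasiCompact a := K600.LimAff.repWith_of_isPullback hpqc sq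
  have haet : RepWith @Etale a := K600.LimAff.repWith_of_isPullback hp sq
  have hasurj : RepWith @Surjective a := K600.LimAff.repWith_of_isPullback hp' sq
  -- the trace of `U` on the chart
  obtain ⟨W, w, fst, sqW⟩ := hj.1 a
  have hw : IsOpenImmersion w.left := hj.2 a fst w sqW
  have hWc : CompactSpace W.left :=
    K596.QC.compactSpace_of_isQuasiCompactSp (K596.QC.isQuasiCompactSp_of_repWith hU
      (MorphismProperty.of_isPullback (P := RepWith _) sqW.flip haqc))
  have hOc : IsCompact ((w.left.opensRange : V.left.Opens) : Set V.left) := by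
    rw [Scheme.Hom.coe_opensRange]
    exact isCompact_range w.left.continuous
  have : ∀ {j k : Over i} (f : j ⟶ k), IsAffineHom ((s.W ⋙ Over.forget S).map f) :=
    fun f => s.isAffineHom_map_of_isAffine hs f
  obtain ⟨k, O, hO, hOV⟩ := exists_preimage_eq (s.W ⋙ Over.forget S) _ (s.isLimitConeLeft sq hc)
    w.left.opensRange hOc
  have hk : RepWith @Etale (s.fst k) := K600.LimAff.repWith_fst s hp k
  let O' : Set (s.obj k).left := {o | o ∈ O}
  have hO'o : IsOpen O' := O.2
  have hO'c : IsCompact O' := hO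
  have hopen : IsOpen (Points.ofPt (s.fst k) '' O') := isOpenMap_ofPt_etale hk _ hO'o
  obtain ⟨Uk, jk, hjk, hr⟩ := K610.Sub.exists_open_subspace ⟨D.obj k.left, hD _⟩ _ hopen
  obtain ⟨q, hq⟩ := exists_isPullback_of_range hj hjk (c.π.app k.left) (by
    ext x
    constructor
    · rintro ⟨z, rfl⟩
      obtain ⟨v, hv⟩ := surjective_ofPt hasurj (Points.map j z)
      obtain ⟨t, -, rfl⟩ := exists_of_isPullback_yon sqW z v hv.symm
      have h1 : w.left t ∈ w.left.opensRange := ⟨t, rfl⟩
      rw [← hOV] at h1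
      change Points.map (c.π.app k.left) _ ∈ Set.range (Points.map jk.hom)
      rw [hr, ← hv, Points.map_ofPt, ← s.proj_fst sq k, ofPt_map_comp]
      exact ⟨_, h1, rfl⟩
    · intro hx
      change Points.map (c.π.app k.left) x ∈ Set.range (Points.map jk.hom) at hx
      rw [hr] at hx
      obtain ⟨o, ho, hox⟩ := hx
      obtain ⟨v, hv1, hv2⟩ := exists_of_isPullback_yon (s.isPullback_proj sq k) x o hox.symm
      have h1 : v ∈ w.left.opensRange := by
        rw [← hOV]
        change (s.proj sq k).left v ∈ O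
        rw [hv2]
        exact ho
      obtain ⟨t, rfl⟩ := h1
      refine ⟨Points.ofPt fst t, ?_⟩
      rw [Points.map_ofPt, sqW.w, ofPt_map_comp, hv1])
  refine ⟨k.left, Uk.obj, jk.hom, q, hjk, ?_, hq⟩
  have h1 := K610.OpenImm.isOpenEmbedding_points (hD k.left) hjk
  have h2 : IsCompact (Set.range (Points.map jk.hom)) := by
    rw [hr]
    exact hO'c.image (Points.continuous_ofPt _)
  have h3 : CompactSpace (Points Uk.obj) := by
    rw [← isCompact_univ_iff, h1.isEmbedding.isCompact_iff, Set.image_univ]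
    exact h2
  exact K609.QC.isQuasiCompactSp_of_compactSpace Uk.property

end K606.OpenLim
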