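import Groth.Agent.AlgSp.K606.SuppSub
import Groth.Agent.AlgSp.K644.Chart

/-!
# Quasi-coherent submodules given on affine objects
-/

set_option autoImplicit false
universe u

open CategoryTheory CategoryTheory.Limits AlgebraicGeometry Opposite

namespace K606.QcSub

open AlgSp K606.AffSub

variable {S : Scheme.{u}} {X : Sp S}

theorem isQuasicoherent_iff (M : ModEt X) : M.IsQuasicoherent ↔ BCaff M :=
  (K644.Chart.isQuasicoherent_iff_isCart M).trans ⟨fun h _ _ g h1 h2 => h g h1 h2, fun h _ _ g h1 h2 => h g h1 h2⟩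

theorem bcaff (M : ModEt X) [M.IsQuasicoherent] : BCaff M := (isQuasicoherent_iff M).1 inferInstance

/-- Quasi-coherent submodules from submodules of the sections over affine objects. -/
theorem exists_sub {F : ModEt X} [F.IsQuasicoherent] (N : Sub F) : ∃ (F' : ModEt X) (ι : F' ⟶ F), Mono ι ∧
    F'.IsQuasicoherent ∧ ∀ (E : EtOver X) (hE : IsAffine E.obj.left.left),
      Set.range (ι.val.app (op E)).hom = {s : F.val.presheaf.obj (op E) | s ∈ N.sub E hE} := by
  obtain ⟨F', ι, h1, h2, h3⟩ := K606.AffSub.exists_sub N (bcaff F)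
  exact ⟨F', ι, h1, (isQuasicoherent_iff F').2 h2, h3⟩

end K606.QcSub
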