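import Groth.Agent.AlgSp.K606.BCSub

/-!
# Base change of quotients and kernels
-/

set_option autoImplicit false

open TensorProduct

namespace K606.QuotBC

open Groth.Agent.Etbase.FFExact

section Alg

variable {A B : Type*} [CommRing A] [CommRing B] [Algebra A B]
  {M M' : Type*} [AddCommGroup M] [AddCommGroup M'] [Module A M] [Module B M'] [Module A M'] [IsScalarTower A B M']
  (f : M →ₗ[A] M')

/-- Base change of a quotient. -/
theorem isBaseChange_quot (hf : IsBaseChange B f) (N : Submodule A M) (N' : Submodule B M')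
    (hN' : N' ≤ Submodule.span B (f '' N)) (q : (M ⧸ N) →ₗ[A] (M' ⧸ N'))
    (hq : ∀ m, q (Submodule.Quotient.mk m) = Submodule.Quotient.mk (f m)) : IsBaseChange B q := by
  let g : M →ₗ[A] B ⊗[A] (M ⧸ N) := (TensorProduct.mk A B (M ⧸ N) 1).comp (Submodule.mkQ _)
  let l : M' →ₗ[B] B ⊗[A] (M ⧸ N) := hf.lift g
  have hl : ∀ n, l (f n) = (1 : B) ⊗ₜ[A] (Submodule.Quotient.mk n) := fun n => hf.lift_eq g n
  have hl0 : N' ≤ LinearMap.ker l := by
    refine hN'.trans ?_
    rw [Submodule.span_le]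
    rintro _ ⟨n, hn, rfl⟩
    change l (f n) = 0
    rw [hl, (Submodule.Quotient.mk_eq_zero N).2 hn, tmul_zero]
  let inv : (M' ⧸ N') →ₗ[B] B ⊗[A] (M ⧸ N) := N'.liftQ l hl0
  let fwd : B ⊗[A] (M ⧸ N) →ₗ[B] (M' ⧸ N') := q.liftBaseChange B
  have hfwd : ∀ m, fwd (1 ⊗ₜ Submodule.Quotient.mk m) = Submodule.Quotient.mk (f m) := fun m => by
    rw [LinearMap.liftBaseChange_tmul, one_smul, hq]
  have h1 : fwd.comp inv = LinearMap.id := by
    refine Submodule.linearMap_qext _ (hf.algHom_ext _ _ fun m => ?_)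
    change fwd (l (f m)) = Submodule.Quotient.mk (f m)
    rw [hl, hfwd]
  have h2 : inv.comp fwd = LinearMap.id := by
    refine (TensorProduct.isBaseChange A (M ⧸ N) B).algHom_ext _ _ fun m => ?_
    obtain ⟨m, rfl⟩ := Submodule.Quotient.mk_surjective N m
    change inv (fwd (1 ⊗ₜ Submodule.Quotient.mk m)) = 1 ⊗ₜ Submodule.Quotient.mk m
    rw [hfwd]
    exact hl m
  let e : B ⊗[A] (M ⧸ N) ≃ₗ[B] (M' ⧸ N') := LinearEquiv.ofLinearMap fwd inv h1 h2
  refine IsBaseChange.of_equiv e fun x => ?_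
  obtain ⟨m, rfl⟩ := Submodule.Quotient.mk_surjective N x
  exact (hfwd m).trans (hq m).symm

/-- Finite products of base changes. -/
theorem isBaseChange_pi {ι : Type*} [Finite ι] {P P' : ι → Type*} [∀ i, AddCommGroup (P i)] [∀ i, AddCommGroup (P' i)]
    [∀ i, Module A (P i)] [∀ i, Module B (P' i)] [∀ i, Module A (P' i)] [∀ i, IsScalarTower A B (P' i)]
    (χ : ∀ i, P i →ₗ[A] P' i) (h : ∀ i, IsBaseChange B (χ i)) (q : (∀ i, P i) →ₗ[A] (∀ i, P' i))
    (hq : ∀ x i, q x i = χ i (x i)) : IsBaseChange B q := by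
  classical
  let _ := Fintype.ofFinite ι
  let e : B ⊗[A] (∀ i, P i) ≃ₗ[B] (∀ i, P' i) :=
    (TensorProduct.piRight A B B P).trans (LinearEquiv.piCongrRight fun i => (h i).equiv)
  refine IsBaseChange.of_equiv e fun x => ?_
  funext i
  have h1 : e (1 ⊗ₜ x) i = (h i).equiv (TensorProduct.piRight A B B P (1 ⊗ₜ x) i) := rfl
  rw [h1, TensorProduct.piRight_apply, TensorProduct.piRightHom_tmul, (h i).equiv_tmul, one_smul, hq]

/-- Kernels commute with flat base change. -/
theorem ker_le_span [Module.Flat A B] (hf : IsBaseChange B f)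
    {P P' : Type*} [AddCommGroup P] [AddCommGroup P'] [Module A P] [Module B P'] [Module A P'] [IsScalarTower A B P']
    (χ : P →ₗ[A] P') (hχ : IsBaseChange B χ) (g : M →ₗ[A] P) (g' : M' →ₗ[B] P') (comm : ∀ m, χ (g m) = g' (f m))
    (x : M') (hx : g' x = 0) : x ∈ Submodule.span B (f '' {m | g m = 0}) := by
  obtain ⟨y, rfl⟩ := hf.equiv.surjective x
  have key : ∀ y : B ⊗[A] M, hχ.equiv (AlgebraTensorModule.lTensor B B g y) = g' (hf.equiv y) := by
    intro y
    induction y using TensorProduct.induction_on with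
    | zero => simp
    | tmul b m => rw [AlgebraTensorModule.lTensor_tmul, hχ.equiv_tmul, hf.equiv_tmul, map_smul, comm]
    | add y z hy hz => rw [map_add, map_add, map_add, map_add, hy, hz]
  have h0 : AlgebraTensorModule.lTensor B B g y = 0 := by
    apply hχ.equiv.injective
    rw [key, hx, map_zero]
  have hker := Module.Flat.ker_lTensor_eq (R := A) B B g
  have hmem : y ∈ LinearMap.range (AlgebraTensorModule.lTensor B B (LinearMap.ker g).subtype) := by
    rw [← hker]
    exact h0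
  obtain ⟨z, rfl⟩ := hmem
  clear h0 hx
  induction z using TensorProduct.induction_on with
  | zero => simp
  | tmul b m =>
    rw [AlgebraTensorModule.lTensor_tmul, hf.equiv_tmul]
    exact Submodule.smul_mem _ _ (Submodule.subset_span ⟨m.1, LinearMap.mem_ker.1 m.2, rfl⟩)
  | add y z hy hz => rw [map_add, map_add]; exact Submodule.add_mem _ hy hz

end Alg

section BC

variable {A B : Type*} [CommRing A] [CommRing B] {φ : A →+* B}
  {M M' : Type*} [AddCommGroup M] [AddCommGroup M'] [Module A M] [Module B M'] {ψ : M →+ M'}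

/-- The additive map induced on quotients. -/
def quot (ψ : M →+ M') (N : Submodule A M) (N' : Submodule B M') (hN : ∀ n ∈ N, ψ n ∈ N') : M ⧸ N →+ M' ⧸ N' :=
  QuotientAddGroup.map N.toAddSubgroup N'.toAddSubgroup ψ hN

theorem quot_mk (N : Submodule A M) (N' : Submodule B M') (hN : ∀ n ∈ N, ψ n ∈ N') (m : M) :
    quot ψ N N' hN (Submodule.Quotient.mk m) = Submodule.Quotient.mk (ψ m) := rfl

theorem isBC_quot (h : IsBC φ ψ) (N : Submodule A M) (N' : Submodule B M')
    (hN : ∀ n ∈ N, ψ n ∈ N') (hN' : N' ≤ Submodule.span B (ψ '' N)) : IsBC φ (quot ψ N N' hN) := by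
  obtain ⟨h1, h2⟩ := h
  refine ⟨fun a m => ?_, ?_⟩
  · obtain ⟨m, rfl⟩ := Submodule.Quotient.mk_surjective N m
    rw [← Submodule.Quotient.mk_smul, quot_mk, quot_mk, h1, Submodule.Quotient.mk_smul]
  let : Algebra A B := φ.toAlgebra
  let : Module A M' := Module.compHom M' φ
  have : IsScalarTower A B M' := ⟨fun a b m => by
      change (φ a * b) • m = φ a • b • m
      rw [mul_smul]⟩
  exact isBaseChange_quot _ h2 N N' hN' _ (fun m => rfl)

theorem isBC_pi {ι : Type*} [Finite ι] {P P' : ι → Type*} [∀ i, AddCommGroup (P i)] [∀ i, AddCommGroup (P' i)]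
    [∀ i, Module A (P i)] [∀ i, Module B (P' i)] (χ : ∀ i, P i →+ P' i) (h : ∀ i, IsBC φ (χ i)) :
    IsBC φ (AddMonoidHom.mk' (fun (x : ∀ i, P i) (i : ι) => χ i (x i))
      (fun x y => funext fun i => (χ i).map_add (x i) (y i))) := by
  choose h1 h2 using h
  refine ⟨fun a m => funext fun i => h1 i a (m i), ?_⟩
  let : Algebra A B := φ.toAlgebra
  let : ∀ i, Module A (P' i) := fun i => Module.compHom (P' i) φ
  have : ∀ i, IsScalarTower A B (P' i) := fun i => ⟨fun a b m => by
      change (φ a * b) • m = φ a • b • m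
      rw [mul_smul]⟩
  exact isBaseChange_pi _ h2 _ (fun x i => rfl)

theorem mem_span_of_ker (hφ : φ.Flat) (h : IsBC φ ψ) {P P' : Type*} [AddCommGroup P] [AddCommGroup P'] [Module A P]
    [Module B P'] {χ : P →+ P'} (hχ : IsBC φ χ) (g : M →ₗ[A] P) (g' : M' →ₗ[B] P')
    (comm : ∀ m, χ (g m) = g' (ψ m)) (x : M') (hx : g' x = 0) : x ∈ Submodule.span B (ψ '' {m | g m = 0}) := by
  obtain ⟨h1, h2⟩ := h
  obtain ⟨h3, h4⟩ := hχ
  let : Algebra A B := φ.toAlgebra
  let : Module A M' := Module.compHom M' φ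
  have : IsScalarTower A B M' := ⟨fun a b m => by
      change (φ a * b) • m = φ a • b • m
      rw [mul_smul]⟩
  let : Module A P' := Module.compHom P' φ
  have : IsScalarTower A B P' := ⟨fun a b m => by
      change (φ a * b) • m = φ a • b • m
      rw [mul_smul]⟩
  have : Module.Flat A B := hφ
  exact ker_le_span _ h2 _ h4 g g' comm x hx

end BC

end K606.QuotBC
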