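import Groth.Agent.AlgSp.K606.LqfDesc
import Groth.Agent.AlgSp.K606.FCov
import Groth.Agent.AlgSp.K595.DescInst
import Groth.Agent.AlgSp.K597.Chart
import Groth.Agent.S0087

/-!
# Descent of "representable by schemes, separated, locally quasi-finite" along fppf coverings of sheaves

Everything is stated relative to the hypothesis `SepLqfSch S` (an algebraic space separated and locally
quasi-finite over a scheme is a scheme), which is the statement S10259.
-/

set_option autoImplicit false
universe u

open CategoryTheory CategoryTheory.Limits AlgebraicGeometry Opposite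

namespace K606.SepLqf

open AlgSp K613.Cover K606.LqfDesc

variable {S : Scheme.{u}}

/-- Algebraic spaces separated and locally quasi-finite over a scheme are schemes (S10259). -/
def SepLqfSch (S : Scheme.{u}) : Prop :=
  ∀ (T : Over S) (X : AlgSp.Space S) (f : X ⟶ (AlgSp.ofScheme S).obj T),
    LocP (@LocallyQuasiFinite ⊓ @LocallyOfFiniteType) f.hom → IsSeparatedMor f.hom →
      X.obj.obj.IsRepresentable

theorem exists_iso (h259 : SepLqfSch S) {T : Over S} {Z : Sp S} (hZ : IsAlgSpace Z)
    (q : Z ⟶ (yon S).obj T) (hqf : LocP (@LocallyQuasiFinite ⊓ @LocallyOfFiniteType) q)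
    (hsep : IsSeparatedMor q) : ∃ V : Over S, Nonempty ((yon S).obj V ≅ Z) := by
  obtain ⟨V, ⟨r⟩⟩ := h259 T ⟨Z, hZ⟩ (ObjectProperty.homMk q) hqf hsep
  exact ⟨V, ⟨isoOfRepresentableBy r⟩⟩

theorem repWith_of_repBySpWith (h259 : SepLqfSch S) {F G : Sp S} {a : F ⟶ G}
    (ha : RepBySpWith (IsSeparatedMor ⊓ LocP (@LocallyQuasiFinite ⊓ @LocallyOfFiniteType)) a.hom) :
    RepWith SepLqf a := by
  rw [repBySpWith_hom_iff] at ha
  refine ⟨representable_of_exists_iso fun T ξ => ?_, fun T V g fst snd sq => ?_⟩
  · obtain ⟨h1, h2, h3⟩ := ha ξ _ _ (IsPullback.of_hasPullback a ξ)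
    exact exists_iso h259 h1 _ h3 h2
  · obtain ⟨h1, h2, h3⟩ := ha g _ _ sq
    exact ⟨(isSeparatedMor_yon_map_iff snd).1 h2, locP_yon_map h3⟩

/-- Descent of "representable, separated and locally quasi-finite" along fppf locally surjective maps. -/
theorem repWith_of_fSurj {E F G H : Sp S} {a : E ⟶ F} {f : E ⟶ H} {g : F ⟶ G} {b : H ⟶ G}
    (sq : IsPullback f a b g) (hg : FSurj g) (ha : RepWith SepLqf a) : RepWith SepLqf b := by
  have hb := representable_of_fSurj sq hg ha
  have i1 : MorphismProperty.DescendsAlong (C := Scheme.{u}) @IsSeparated fppf.{u} :=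
    K595.DescInst.isSeparated.{u}
  have i2 : MorphismProperty.DescendsAlong (C := Scheme.{u}) (@LocallyQuasiFinite ⊓ @LocallyOfFiniteType)
    fppf.{u} := by
    have := Groth.Agent.S0087.result.{u}
    exact K595.DescInst.of_fpqc _
  have i3 : MorphismProperty.IsStableUnderBaseChange (C := Scheme.{u})
    (@LocallyQuasiFinite ⊓ @LocallyOfFiniteType) := inferInstance
  have h1 : RepWith @IsSeparated b :=
    hg.repWith sq hb (K597.repWith_mono (fun _ _ _ h => h.1) ha)
  have h2 : RepWith (@LocallyQuasiFinite ⊓ @LocallyOfFiniteType) b :=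
    hg.repWith sq hb (K597.repWith_mono (fun _ _ _ h => h.2) ha)
  exact K597.repWith_inf_iff.2 ⟨h1, h2⟩

end K606.SepLqf
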