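import Mathlib.Algebra.Category.ModuleCat.Presheaf.Submodule
import Mathlib.Algebra.Category.ModuleCat.Sheaf
import Mathlib.CategoryTheory.Sites.Subsheaf
import Mathlib.CategoryTheory.Sites.Whiskering

/-!
# Subsheaves of modules from local families of submodules
-/

set_option autoImplicit false
universe u v₁ u₁

open CategoryTheory CategoryTheory.Limits Opposite

namespace K606.SubMod

variable {C : Type u₁} [Category.{v₁} C] {J : GrothendieckTopology C} {R : Sheaf J RingCat.{u}}

/-- A family of submodules stable under restriction is local if membership can be tested on coverings. -/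
def IsLocal {M : SheafOfModules.{max u₁ v₁} R} (N : M.val.Submodule) : Prop :=
  ∀ (X : C) (S : Sieve X), S ∈ J X → ∀ x : M.val.obj (op X),
    (∀ ⦃Y : C⦄ (f : Y ⟶ X), S f → M.val.map f.op x ∈ N.obj (op Y)) → x ∈ N.obj (op X)

/-- The subfunctor of the sheaf of sets underlying `M`. -/
noncomputable def subf {M : SheafOfModules.{max u₁ v₁} R} (N : M.val.Submodule) :
    Subfunctor (M.val.presheaf ⋙ forget AddCommGrpCat) where
  obj X := {x | x ∈ N.obj X}
  map f _ hx := N.map f hx

theorem isSheaf {M : SheafOfModules.{max u₁ v₁} R} (N : M.val.Submodule) (hN : IsLocal N) :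
    Presheaf.IsSheaf J N.toPresheafOfModules.presheaf := by
  rw [Presheaf.isSheaf_iff_isSheaf_forget J _ (forget AddCommGrpCat.{max u₁ v₁})]
  have hM : Presheaf.IsSheaf J (M.val.presheaf ⋙ forget AddCommGrpCat) :=
    (Presheaf.isSheaf_iff_isSheaf_forget J _ (forget AddCommGrpCat)).1 M.isSheaf
  have h1 : Presheaf.IsSheaf J (subf N).toFunctor := by
    rw [isSheaf_iff_isSheaf_of_type, Subfunctor.isSheaf_iff _ ((isSheaf_iff_isSheaf_of_type _ _).1 hM)]
    intro X x hx
    exact hN X.unop _ hx x fun Y f hf => hf
  exact h1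

/-- The subsheaf of modules. -/
noncomputable def toSheaf {M : SheafOfModules.{max u₁ v₁} R} (N : M.val.Submodule) (hN : IsLocal N) : SheafOfModules.{max u₁ v₁} R where
  val := N.toPresheafOfModules
  isSheaf := isSheaf N hN

noncomputable def ι {M : SheafOfModules.{max u₁ v₁} R} (N : M.val.Submodule) (hN : IsLocal N) : toSheaf N hN ⟶ M := ⟨N.ι⟩

instance {M : SheafOfModules.{max u₁ v₁} R} (N : M.val.Submodule) (hN : IsLocal N) : Mono (ι N hN) where
  right_cancellation g h hgh := by
    ext1
    have h1 : g.val ≫ N.ι = h.val ≫ N.ι := congrArg SheafOfModules.Hom.val hgh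
    exact (cancel_mono N.ι).1 h1

theorem range_ι {M : SheafOfModules.{max u₁ v₁} R} (N : M.val.Submodule) (hN : IsLocal N) (X : Cᵒᵖ) :
    Set.range ((ι N hN).val.app X).hom = {x | x ∈ N.obj X} := Subtype.range_val

end K606.SubMod
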