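import Groth.Agent.AlgSp.K606.AnnSub
import Groth.Agent.AlgSp.K610.Base
import Groth.Agent.AlgSp.K596.QC

/-!
# The submodule of sections supported on a closed subset with quasi-compact complement
-/

set_option autoImplicit false
universe u

open CategoryTheory CategoryTheory.Limits AlgebraicGeometry Opposite

namespace K606.SuppSub

open AlgSp K606.AffSub K606.AnnSub Groth.Agent.Etbase.FFExact

section Sch

variable {Y : Scheme.{u}} [IsAffine Y]

theorem zeroLocus_subset_iff (I J : Ideal Γ(Y, ⊤)) :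
    Y.zeroLocus (U := ⊤) (I : Set Γ(Y, ⊤)) ⊆ Y.zeroLocus (U := ⊤) (J : Set Γ(Y, ⊤)) ↔ J ≤ I.radical := by
  rw [← PrimeSpectrum.zeroLocus_subset_zeroLocus_iff, ← Y.toSpecΓ_image_zeroLocus,
    ← Y.toSpecΓ_image_zeroLocus]
  exact (Set.image_subset_image_iff (Y.isoSpec.hom.homeomorph).injective).symm

theorem exists_fg {O : Set Y} (hO : IsOpen O) (hc : IsCompact O) :
    ∃ I : Ideal Γ(Y, ⊤), I.FG ∧ Y.zeroLocus (U := ⊤) (I : Set Γ(Y, ⊤)) = Oᶜ := by
  let e := Y.isoSpec.hom.homeomorph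
  obtain ⟨I, hI, hIO⟩ := (PrimeSpectrum.isCompact_isOpen_iff_ideal (s := e '' O)).1
    ⟨hc.image e.continuous, e.isOpenMap _ hO⟩
  refine ⟨I, hI, ?_⟩
  rw [← Y.toSpecΓ_preimage_zeroLocus]
  have h1 : ∀ z : ↥Y, e z ∈ PrimeSpectrum.zeroLocus (I : Set Γ(Y, ⊤)) ↔ ¬ (e z ∈ e '' O) := fun z =>
    not_iff_not.1 ((Set.ext_iff.1 hIO (e z)).trans not_not.symm)
  have h2 : ∀ z : ↥Y, e z ∈ e '' O ↔ z ∈ O := fun z => e.injective.mem_set_image
  ext x
  exact (h1 x).trans (not_congr (h2 x))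

end Sch

/-- elements annihilated by a power of an ideal -/
def powAnn {A M : Type*} [CommRing A] [AddCommGroup M] [Module A M] (I : Ideal A) : Submodule A M where
  carrier := {s | ∃ n : ℕ, s ∈ (ann (I ^ n) : Submodule A M)}
  zero_mem' := ⟨0, Submodule.zero_mem _⟩
  add_mem' := by
    rintro s t ⟨m, hm⟩ ⟨n, hn⟩
    refine ⟨m + n, Submodule.add_mem _ ?_ ?_⟩
    · exact fun a ha => hm a (Ideal.pow_le_pow_right (Nat.le_add_right m n) ha)
    · exact fun a ha => hn a (Ideal.pow_le_pow_right (Nat.le_add_left n m) ha)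
  smul_mem' := by
    rintro r s ⟨n, hn⟩
    exact ⟨n, Submodule.smul_mem _ _ hn⟩

theorem mem_powAnn {A M : Type*} [CommRing A] [AddCommGroup M] [Module A M] (I : Ideal A) (s : M) :
    s ∈ (powAnn I : Submodule A M) ↔ ∃ n : ℕ, ∀ a ∈ I ^ n, a • s = 0 := Iff.rfl

variable {S : Scheme.{u}} {X : Sp S} {F : ModEt X}

theorem zeroLocus_map {E E' : EtOver X} (g : E' ⟶ E) (T : Set (Points X)) (I : Ideal Γ(E.obj.left.left, ⊤))
    (hI : E.obj.left.left.zeroLocus (U := ⊤) (I : Set Γ(E.obj.left.left, ⊤)) =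
      {w | AlgSp.Points.ofPt E.obj.hom w ∈ T}) :
    E'.obj.left.left.zeroLocus (U := ⊤) ((I.map g.hom.left.left.appTop.hom :
      Ideal Γ(E'.obj.left.left, ⊤)) : Set Γ(E'.obj.left.left, ⊤)) = {w | AlgSp.Points.ofPt E'.obj.hom w ∈ T} := by
  rw [Ideal.map, Scheme.zeroLocus_span]
  have h1 := Scheme.preimage_zeroLocus g.hom.left.left (U := ⊤) (I : Set Γ(E.obj.left.left, ⊤))
  refine h1.symm.trans ?_
  rw [hI]
  ext w
  change Points.ofPt E.obj.hom (g.hom.left.left w) ∈ T ↔ Points.ofPt E'.obj.hom w ∈ T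
  rw [← K610.Base.ofPt_map_comp, CostructuredArrow.w g.hom]

/-- The sections supported on a closed subset. -/
noncomputable def suppSub (hF : BCaff F) (T : Set (Points X))
    (I : ∀ (E : EtOver X), IsAffine E.obj.left.left → Ideal Γ(E.obj.left.left, ⊤))
    (hft : ∀ (E : EtOver X) (hE : IsAffine E.obj.left.left), (I E hE).FG)
    (hz : ∀ (E : EtOver X) (hE : IsAffine E.obj.left.left), E.obj.left.left.zeroLocus (U := ⊤) (I E hE : Set Γ(E.obj.left.left, ⊤)) =
      {w | AlgSp.Points.ofPt E.obj.hom w ∈ T}) : Sub F where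
  sub E hE := powAnn (I E hE)
  map_mem {E E'} g hE hE' s := by
    rintro ⟨n, hn⟩
    have h1 := mem_ann_map (φ := g.hom.left.left.appTop.hom) (ψ := F.val.presheaf.map g.op) (map_zero _)
      (fun a m => map_smul F g a m) _ s hn
    rw [Ideal.map_pow] at h1
    have h2 : I E' hE' ≤ ((I E hE).map g.hom.left.left.appTop.hom).radical := by
      rw [← zeroLocus_subset_iff, zeroLocus_map g T _ (hz E hE), hz]
    obtain ⟨m, hm⟩ := Ideal.exists_pow_le_of_le_radical_of_fg h2 (hft E' hE')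
    refine ⟨m * n, fun a ha => h1 a ?_⟩
    rw [pow_mul] at ha
    exact Ideal.pow_right_mono hm n ha
  le_span {E E'} g hE hE' := by
    rintro s ⟨n, hn⟩
    have h2 : (I E hE).map g.hom.left.left.appTop.hom ≤ (I E' hE').radical := by
      rw [← zeroLocus_subset_iff, zeroLocus_map g T _ (hz E hE), hz]
    obtain ⟨m, hm⟩ := Ideal.exists_pow_le_of_le_radical_of_fg h2 ((hft E hE).map _)
    have h3 := K606.BCSub.mem_span_of_ann (flat_appTop g hE hE') (hF g hE hE') ((I E hE) ^ (m * n))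
      ((hft E hE).pow) s fun a ha => hn _ (by
        have h4 := Ideal.mem_map_of_mem g.hom.left.left.appTop.hom ha
        rw [Ideal.map_pow, pow_mul] at h4
        exact Ideal.pow_right_mono hm n h4)
    refine Submodule.span_mono (Set.image_mono ?_) h3
    intro x hx
    exact ⟨m * n, hx⟩

theorem mem_powAnn_iff {E : EtOver X} (hE : IsAffine E.obj.left.left) (I : Ideal Γ(E.obj.left.left, ⊤)) (hI : I.FG)
    (x : AlgSp.sectModEt F E) :
    (∃ n : ℕ, ∀ a ∈ I ^ n, (AlgSp.upΓ E a) • x = 0) ↔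
      E.obj.left.left.zeroLocus (U := ⊤) ((AlgSp.annSect x : Ideal Γ(E.obj.left.left, ⊤)) : Set Γ(E.obj.left.left, ⊤)) ⊆
        E.obj.left.left.zeroLocus (U := ⊤) (I : Set Γ(E.obj.left.left, ⊤)) := by
  rw [zeroLocus_subset_iff]
  constructor
  · rintro ⟨n, hn⟩ a ha
    exact ⟨n, hn _ (Ideal.pow_mem_pow ha n)⟩
  · intro h
    obtain ⟨n, hn⟩ := Ideal.exists_pow_le_of_le_radical_of_fg h hI
    exact ⟨n, fun a ha => hn ha⟩

theorem exists_suppSub (hF : BCaff F) (T : Set (Points X))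
    (h1 : ∀ (W : AlgSp.EtOver X), IsAffine W.obj.left.left →
      ∃ I : Ideal Γ(W.obj.left.left, ⊤), I.FG ∧
        W.obj.left.left.zeroLocus (U := ⊤) (I : Set Γ(W.obj.left.left, ⊤)) =
          {w | AlgSp.Points.ofPt W.obj.hom w ∈ T}) :
    ∃ (F' : AlgSp.ModEt X) (ι : F' ⟶ F), Mono ι ∧ BCaff F' ∧
      (∀ (W : AlgSp.EtOver X), IsAffine W.obj.left.left →
        Set.range (ι.val.app (op W)).hom =
          {x : AlgSp.sectModEt F W | W.obj.left.left.zeroLocus (U := ⊤)
              ((AlgSp.annSect x : Ideal Γ(W.obj.left.left, ⊤)) : Set Γ(W.obj.left.left, ⊤)) ⊆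
            {w | AlgSp.Points.ofPt W.obj.hom w ∈ T}}) ∧
      ∀ (W : AlgSp.EtOver X), IsAffine W.obj.left.left →
        ∀ I : Ideal Γ(W.obj.left.left, ⊤), I.FG →
          W.obj.left.left.zeroLocus (U := ⊤) (I : Set Γ(W.obj.left.left, ⊤)) =
            {w | AlgSp.Points.ofPt W.obj.hom w ∈ T} →
          Set.range (ι.val.app (op W)).hom =
            {x : AlgSp.sectModEt F W | ∃ n : ℕ, ∀ a ∈ I ^ n, (AlgSp.upΓ W a) • x = 0} := by
  choose I hft hz using h1
  obtain ⟨F', ι, i1, i2, i3⟩ := exists_sub (suppSub hF T I hft hz) hF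
  have i4 : ∀ (W : AlgSp.EtOver X), IsAffine W.obj.left.left →
        Set.range (ι.val.app (op W)).hom =
          {x : AlgSp.sectModEt F W | W.obj.left.left.zeroLocus (U := ⊤)
              ((AlgSp.annSect x : Ideal Γ(W.obj.left.left, ⊤)) : Set Γ(W.obj.left.left, ⊤)) ⊆
            {w | AlgSp.Points.ofPt W.obj.hom w ∈ T}} := by
    intro W hW
    refine (i3 W hW).trans ?_
    ext x
    have := mem_powAnn_iff hW (I W hW) (hft W hW) (F := F) x
    rw [hz W hW] at this
    exact this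
  refine ⟨F', ι, i1, i2, i4, fun W hW J hJ hJz => (i4 W hW).trans ?_⟩
  ext x
  have := mem_powAnn_iff hW J hJ (F := F) x
  rw [hJz] at this
  exact this.symm

open K610.Base in
/-- The complement of a quasi-compact open subspace is locally cut out by finitely many equations. -/
theorem exists_fg_of_open {U : Sp S} {j : U ⟶ X} (hj : RepWith @IsOpenImmersion j) (hjqc : IsQuasiCompactMor j)
    (W : EtOver X) (hW : IsAffine W.obj.left.left) :
    ∃ I : Ideal Γ(W.obj.left.left, ⊤), I.FG ∧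
        W.obj.left.left.zeroLocus (U := ⊤) (I : Set Γ(W.obj.left.left, ⊤)) =
          {w | AlgSp.Points.ofPt W.obj.hom w ∈ (Set.range (AlgSp.Points.map j))ᶜ} := by
  obtain ⟨V, v, fst, sq⟩ := hj.1 W.obj.hom
  have hv : IsOpenImmersion v.left := hj.2 _ fst v sq
  have hvqc : QuasiCompact v.left := (K596.QC.repWith_of_isQuasiCompactMor hj.1 hjqc).2 _ fst v sq
  have hVc : CompactSpace V.left := QuasiCompact.compactSpace_of_compactSpace v.left
  obtain ⟨I, hI, hz⟩ := exists_fg (Y := W.obj.left.left) (O := Set.range v.left) v.left.opensRange.2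
    (isCompact_range v.left.continuous)
  refine ⟨I, hI, hz.trans ?_⟩
  ext w
  refine not_congr ?_
  constructor
  · rintro ⟨t, rfl⟩
    refine ⟨Points.ofPt fst t, ?_⟩
    rw [Points.map_ofPt, sq.w, ofPt_map_comp]
  · rintro ⟨z, hz⟩
    obtain ⟨t, -, ht⟩ := exists_of_isPullback_yon sq z w hz
    exact ⟨t, ht⟩

end K606.SuppSub
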